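import Cfsg.Agent.FormConj.Norm

/-!
Congruence of invariant forms through norms in commutative matrix algebras.
-/

set_option autoImplicit false

open Matrix

namespace CfsgLib.FormConj

variable {K : Type*} [Field K] {ι : Type*} [Fintype ι] [DecidableEq ι] (θ : K →+* K)

/-- The twisted transpose. -/
def dag (A : Matrix ι ι K) : Matrix ι ι K := (A.map θ)ᵀ

theorem dag_add (A B : Matrix ι ι K) : dag θ (A + B) = dag θ A + dag θ B := by
  ext i j; simp [dag]

theorem dag_mul (A B : Matrix ι ι K) : dag θ (A * B) = dag θ B * dag θ A := by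
  simp [dag, Matrix.map_mul, Matrix.transpose_mul]

theorem dag_one : dag θ (1 : Matrix ι ι K) = 1 := by
  simp [dag]

theorem dag_algebraMap (a : K) : dag θ (algebraMap K (Matrix ι ι K) a) = algebraMap K (Matrix ι ι K) (θ a) := by
  ext i j
  by_cases h : i = j
  · subst h; simp [dag, Matrix.algebraMap_matrix_apply]
  · simp [dag, Matrix.algebraMap_matrix_apply, h, Ne.symm h]

theorem dag_smul (a : K) (A : Matrix ι ι K) : dag θ (a • A) = θ a • dag θ A := by
  ext i j; simp [dag]

theorem dag_dag (hθ : ∀ a, θ (θ a) = a) (A : Matrix ι ι K) : dag θ (dag θ A) = A := by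
  ext i j; simp [dag, hθ]

theorem det_dag (A : Matrix ι ι K) : (dag θ A).det = θ A.det := by
  rw [dag, Matrix.det_transpose]; exact (θ.map_det A).symm

theorem isUnit_det_dag {A : Matrix ι ι K} (h : IsUnit A.det) : IsUnit (dag θ A).det := by
  rw [det_dag]; exact h.map θ

/-- The adjoint for the form with matrix `G`. -/
noncomputable def adj (G A : Matrix ι ι K) : Matrix ι ι K := G⁻¹ * dag θ A * G

variable {G : Matrix ι ι K}

theorem adj_add (A B : Matrix ι ι K) : adj θ G (A + B) = adj θ G A + adj θ G B := by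
  simp [adj, dag_add, mul_add, add_mul]

theorem adj_mul (hG : IsUnit G.det) (A B : Matrix ι ι K) : adj θ G (A * B) = adj θ G B * adj θ G A := by
  simp only [adj, dag_mul, Matrix.mul_assoc]
  rw [Matrix.mul_nonsing_inv_cancel_left G _ hG]

theorem adj_algebraMap (hG : IsUnit G.det) (a : K) :
    adj θ G (algebraMap K (Matrix ι ι K) a) = algebraMap K (Matrix ι ι K) (θ a) := by
  rw [adj, dag_algebraMap, ← Algebra.commutes, Matrix.mul_assoc, Matrix.nonsing_inv_mul _ hG, Matrix.mul_one]

theorem adj_one (hG : IsUnit G.det) : adj θ G (1 : Matrix ι ι K) = 1 := by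
  rw [adj, dag_one, Matrix.mul_one, Matrix.nonsing_inv_mul _ hG]

variable [Finite K]

theorem isUnit_of_det {R : Subalgebra K (Matrix ι ι K)} {r : R} (h : IsUnit (r : Matrix ι ι K).det) : IsUnit r := by
  have hinj : Function.Injective fun x : R => r * x := fun x y e => by
    have e' : (r : Matrix ι ι K) * x = r * y := congrArg Subtype.val e
    refine Subtype.ext ?_
    rw [← Matrix.nonsing_inv_mul_cancel_left (r : Matrix ι ι K) (x : Matrix ι ι K) h, e',
      Matrix.nonsing_inv_mul_cancel_left (r : Matrix ι ι K) (y : Matrix ι ι K) h]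
  have hinj' : Function.Injective fun x : R => x * r := fun x y e => by
    have e' : (x : Matrix ι ι K) * r = y * r := congrArg Subtype.val e
    refine Subtype.ext ?_
    rw [← Matrix.mul_nonsing_inv_cancel_right (r : Matrix ι ι K) (x : Matrix ι ι K) h, e',
      Matrix.mul_nonsing_inv_cancel_right (r : Matrix ι ι K) (y : Matrix ι ι K) h]
  haveI : Finite R := Finite.of_injective _ Subtype.val_injective
  obtain ⟨x, hx⟩ := (Finite.injective_iff_surjective.1 hinj) 1
  obtain ⟨y, hy⟩ := (Finite.injective_iff_surjective.1 hinj') 1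
  have hxy : y = x := by
    calc y = y * (r * x) := by rw [show r * x = 1 from hx, mul_one]
      _ = x := by rw [← mul_assoc, show y * r = 1 from hy, one_mul]
  exact ⟨⟨r, x, hx, hxy ▸ hy⟩, rfl⟩

theorem inv_mem {R : Subalgebra K (Matrix ι ι K)} {A : Matrix ι ι K} (hA : A ∈ R) (h : IsUnit A.det) : A⁻¹ ∈ R := by
  obtain ⟨u, hu⟩ := isUnit_of_det (r := (⟨A, hA⟩ : R)) h
  have h1 : A * ((↑u⁻¹ : R) : Matrix ι ι K) = 1 := by
    have := congrArg Subtype.val u.mul_inv
    rwa [hu] at this
  rw [Matrix.inv_eq_right_inv h1]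
  exact (↑u⁻¹ : R).2

variable (hθ : ∀ a, θ (θ a) = a)
include hθ

open scoped IsMulCommutative in
/-- The adjoint as an involution of a commutative algebra, with the norm and Hilbert 90. -/
theorem exists_in_adjoin (hG : IsUnit G.det) {S : Set (Matrix ι ι K)} (hc : ∀ a ∈ S, ∀ b ∈ S, a * b = b * a)
    (hS : ∀ s ∈ S, adj θ G s ∈ Algebra.adjoin K S) (hSS : ∀ s ∈ S, adj θ G (adj θ G s) = s)
    {E : Matrix ι ι K} (hE : E ∈ Algebra.adjoin K S) (hEE : E * E = E) (hEadj : adj θ G E = E)
    (hmov : ∃ r ∈ Algebra.adjoin K S, IsUnit (r - adj θ G r + E).det) :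
    (∀ h ∈ Algebra.adjoin K S, IsUnit h.det → adj θ G h = h → h * E = E →
        ∃ C ∈ Algebra.adjoin K S, IsUnit C.det ∧ adj θ G C * C = h) ∧
      ∀ u ∈ Algebra.adjoin K S, E = 0 → u * adj θ G u = 1 →
        ∃ C ∈ Algebra.adjoin K S, IsUnit C.det ∧ adj θ G C * u = C := by
  let R := Algebra.adjoin K S
  have hcR : ∀ a b : R, a * b = b * a := fun a b => Subtype.ext
    (Algebra.commute_of_mem_adjoin_of_forall_mem_commute b.2 fun c hc' =>
      (Algebra.commute_of_mem_adjoin_of_forall_mem_commute a.2 fun d hd => hc c hc' d hd).symm)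
  letI : CommRing R := { (inferInstance : Ring R) with mul_comm := hcR }
  have hmem : ∀ r ∈ R, adj θ G r ∈ R ∧ adj θ G (adj θ G r) = r := fun r hr => by
    induction hr using Algebra.adjoin_induction with
    | mem x hx => exact ⟨hS x hx, hSS x hx⟩
    | algebraMap a =>
      refine ⟨?_, ?_⟩
      · rw [adj_algebraMap θ hG]; exact Subalgebra.algebraMap_mem _ _
      · rw [adj_algebraMap θ hG, adj_algebraMap θ hG, hθ]
    | add x y _ _ hx hy => exact ⟨by rw [adj_add]; exact add_mem hx.1 hy.1, by rw [adj_add, adj_add, hx.2, hy.2]⟩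
    | mul x y _ _ hx hy =>
      exact ⟨by rw [adj_mul θ hG]; exact mul_mem hy.1 hx.1, by rw [adj_mul θ hG, adj_mul θ hG, hx.2, hy.2]⟩
  let σ : R ≃+* R :=
    { toFun := fun r => ⟨adj θ G r, (hmem r r.2).1⟩
      invFun := fun r => ⟨adj θ G r, (hmem r r.2).1⟩
      left_inv := fun r => Subtype.ext (hmem r r.2).2
      right_inv := fun r => Subtype.ext (hmem r r.2).2
      map_mul' := fun a b => Subtype.ext (by
        show adj θ G ((a : Matrix ι ι K) * b) = adj θ G a * adj θ G b
        rw [adj_mul θ hG]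
        exact congrArg Subtype.val (mul_comm (⟨_, (hmem b b.2).1⟩ : R) ⟨_, (hmem a a.2).1⟩))
      map_add' := fun a b => Subtype.ext (adj_add θ _ _) }
  have hσ : ∀ r, σ (σ r) = r := fun r => Subtype.ext (hmem r r.2).2
  obtain ⟨r, hr, hru⟩ := hmov
  haveI : Finite R := Finite.of_injective _ Subtype.val_injective
  refine ⟨fun h hh hu hf hhE => ?_, fun u hu hE0 huu => ?_⟩
  · obtain ⟨c, hcu, hcn⟩ := exists_norm_corner σ hσ (e := (⟨E, hE⟩ : R)) (r := (⟨r, hr⟩ : R)) (Subtype.ext hEE)
      (Subtype.ext hEadj) (isUnit_of_det hru) (h := (⟨h, hh⟩ : R)) (isUnit_of_det hu) (Subtype.ext hf) (Subtype.ext hhE)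
    rw [mul_comm] at hcn
    exact ⟨c, c.2, (Matrix.isUnit_iff_isUnit_det _).1 (hcu.map R.val), congrArg Subtype.val hcn⟩
  · rw [hE0, add_zero] at hru
    have hm : Moving σ := moving_of_unit (r := (⟨r, hr⟩ : R)) (isUnit_of_det hru)
    obtain ⟨c, hcu, hcn⟩ := exists_quotient_eq σ hσ hm (u := (⟨u, hu⟩ : R)) (Subtype.ext huu)
    rw [mul_comm] at hcn
    exact ⟨c, c.2, (Matrix.isUnit_iff_isUnit_det _).1 (hcu.map R.val), congrArg Subtype.val hcn⟩

/-- Two forms fixed by `A` that agree on a corner are congruent by a matrix commuting with `A`. -/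
theorem exists_congr_corner {G G' A : Matrix ι ι K} {ε : K} (hG : IsUnit G.det) (hG' : IsUnit G'.det)
    (hs : dag θ G = ε • G) (hs' : dag θ G' = ε • G') (hA : dag θ A * G * A = G) (hA' : dag θ A * G' * A = G')
    {E : Matrix ι ι K} (hE : E ∈ Algebra.adjoin K ({A} : Set (Matrix ι ι K))) (hEE : E * E = E)
    (hEadj : adj θ G E = E) (hEG : G' * E = G * E)
    (hmov : θ ≠ RingHom.id K ∧ E = 0 ∨ IsUnit (A * A - 1 + A * E).det) :
    ∃ C : Matrix ι ι K, IsUnit C.det ∧ C * A = A * C ∧ dag θ C * G * C = G' := by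
  have hAu : IsUnit A.det := by
    have := congrArg Matrix.det hA
    rw [Matrix.det_mul, Matrix.det_mul] at this
    refine isUnit_of_mul_isUnit_right (x := (dag θ A).det * G.det) ?_
    rw [this]; exact hG
  have hadjA : adj θ G A = A⁻¹ := by
    refine (Matrix.inv_eq_left_inv ?_).symm
    rw [adj, Matrix.mul_assoc, Matrix.mul_assoc, ← Matrix.mul_assoc (dag θ A), hA, Matrix.nonsing_inv_mul _ hG]
  set h := G⁻¹ * G' with hh
  have hhu : IsUnit h.det := by
    rw [hh, Matrix.det_mul]; exact (Matrix.isUnit_nonsing_inv_det _ hG).mul hG'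
  have hGh : G * h = G' := by rw [hh, Matrix.mul_nonsing_inv_cancel_left _ _ hG]
  have hadjh : adj θ G h = h := by
    have h1 : dag θ h * (ε • G) = ε • G' := by rw [← hs, ← dag_mul, hGh, hs']
    by_cases hε : ε = 0
    · subst hε
      have := isUnit_det_dag θ hG
      rw [hs, zero_smul] at this
      rcases isEmpty_or_nonempty ι with he | he
      · exact Subsingleton.elim _ _
      · simp at this
    · rw [Matrix.mul_smul] at h1
      have h2 := smul_right_injective (Matrix ι ι K) hε h1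
      rw [adj, Matrix.mul_assoc, h2, hh]
  have hcomm : A * h = h * A := by
    have e1 : dag θ A = G * A⁻¹ * G⁻¹ := by
      have := congrArg (fun M => M * A⁻¹ * G⁻¹) hA
      simp only [Matrix.mul_assoc, Matrix.mul_nonsing_inv _ hG, Matrix.mul_one,
        Matrix.mul_nonsing_inv_cancel_left _ _ hAu] at this
      rw [this, Matrix.mul_assoc]
    rw [e1] at hA'
    have := congrArg (fun M => G⁻¹ * M) hA'
    simp only [Matrix.mul_assoc, Matrix.nonsing_inv_mul_cancel_left _ _ hG] at this
    have h2 := congrArg (fun M => A * M) this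
    simp only [Matrix.mul_nonsing_inv_cancel_left _ _ hAu] at h2
    rw [hh, ← h2, Matrix.mul_assoc]
  have hc : ∀ a ∈ ({A, h} : Set (Matrix ι ι K)), ∀ b ∈ ({A, h} : Set (Matrix ι ι K)), a * b = b * a := by
    rintro a (rfl | rfl) b (rfl | rfl) <;> first | rfl | exact hcomm | exact hcomm.symm
  have hAm : A ∈ Algebra.adjoin K ({A, h} : Set (Matrix ι ι K)) := Algebra.subset_adjoin (Or.inl rfl)
  have hhm : h ∈ Algebra.adjoin K ({A, h} : Set (Matrix ι ι K)) := Algebra.subset_adjoin (Or.inr rfl)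
  have hEm : E ∈ Algebra.adjoin K ({A, h} : Set (Matrix ι ι K)) :=
    Algebra.adjoin_mono (Set.singleton_subset_iff.2 (Set.mem_insert _ _)) hE
  obtain ⟨hnorm, -⟩ := exists_in_adjoin θ hθ hG hc (by
      rintro s (rfl | rfl)
      · rw [hadjA]; exact inv_mem hAm hAu
      · rw [hadjh]; exact hhm) (by
      rintro s (rfl | rfl)
      · have e : adj θ G (adj θ G s) * adj θ G s = 1 := by
          rw [← adj_mul θ hG, hadjA, Matrix.mul_nonsing_inv _ hAu, adj_one θ hG]
        rw [hadjA] at e ⊢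
        rw [← Matrix.mul_nonsing_inv_cancel_right s (adj θ G s⁻¹) hAu]
        calc adj θ G s⁻¹ * s * s⁻¹ = adj θ G s⁻¹ * s⁻¹ * s := by
              rw [Matrix.mul_assoc, Matrix.mul_assoc, Matrix.mul_nonsing_inv _ hAu, Matrix.nonsing_inv_mul _ hAu]
          _ = s := by rw [e, Matrix.one_mul]
      · rw [hadjh, hadjh]) hEm hEE hEadj (by
      rcases hmov with ⟨hne, rfl⟩ | hu
      · obtain ⟨a, ha⟩ : ∃ a, θ a ≠ a := by
          by_contra hh'
          push Not at hh'
          exact hne (RingHom.ext hh')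
        refine ⟨algebraMap K _ a, Subalgebra.algebraMap_mem _ _, ?_⟩
        rw [adj_algebraMap θ hG, ← map_sub, add_zero]
        rw [← Matrix.isUnit_iff_isUnit_det]
        exact (Ne.isUnit (sub_ne_zero.2 (Ne.symm ha))).map _
      · refine ⟨A, hAm, ?_⟩
        rw [hadjA, show A - A⁻¹ + E = A⁻¹ * (A * A - 1 + A * E) by
          rw [Matrix.mul_add, Matrix.mul_sub, Matrix.nonsing_inv_mul_cancel_left _ _ hAu,
            Matrix.nonsing_inv_mul_cancel_left _ _ hAu, Matrix.mul_one], Matrix.det_mul]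
        exact (Matrix.isUnit_nonsing_inv_det _ hAu).mul hu)
  obtain ⟨C, hC, hCu, hCh⟩ := hnorm h hhm hhu hadjh (by rw [hh, Matrix.mul_assoc, hEG, Matrix.nonsing_inv_mul_cancel_left _ _ hG])
  refine ⟨C, hCu, ?_, ?_⟩
  · exact (Algebra.commute_of_mem_adjoin_of_forall_mem_commute (a := A) hC fun b hb => hc A (Or.inl rfl) b hb).symm
  · rw [← hGh, ← hCh, adj]
    simp only [Matrix.mul_assoc, Matrix.mul_nonsing_inv_cancel_left _ _ hG]

/-- Two forms fixed by `A` are congruent by a matrix commuting with `A`. -/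
theorem exists_congr_commute {G G' A : Matrix ι ι K} {ε : K} (hG : IsUnit G.det) (hG' : IsUnit G'.det)
    (hs : dag θ G = ε • G) (hs' : dag θ G' = ε • G') (hA : dag θ A * G * A = G) (hA' : dag θ A * G' * A = G')
    (hmov : θ ≠ RingHom.id K ∨ IsUnit (A * A - 1).det) :
    ∃ C : Matrix ι ι K, IsUnit C.det ∧ C * A = A * C ∧ dag θ C * G * C = G' :=
  exists_congr_corner θ hθ hG hG' hs hs' hA hA' (E := 0) (zero_mem _) (mul_zero 0) (by simp [adj, dag])
    (by simp) (hmov.imp (fun h => ⟨h, rfl⟩) fun h => by rwa [mul_zero, add_zero])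

/-- An invariant form can be made Hermitian. -/
theorem exists_hermitian (hne : θ ≠ RingHom.id K) {P A : Matrix ι ι K} (hP : IsUnit P.det)
    (hA : dag θ A * P * A = P) :
    ∃ H : Matrix ι ι K, IsUnit H.det ∧ dag θ H = H ∧ dag θ A * H * A = H := by
  obtain ⟨X, hX⟩ : ∃ X, X = P⁻¹ * dag θ P := ⟨_, rfl⟩
  have hAu : IsUnit A.det := by
    have := congrArg Matrix.det hA
    rw [Matrix.det_mul, Matrix.det_mul] at this
    refine isUnit_of_mul_isUnit_right (x := (dag θ A).det * P.det) ?_
    rw [this]; exact hP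
  have hXu : IsUnit X.det := by
    rw [hX, Matrix.det_mul]; exact (Matrix.isUnit_nonsing_inv_det _ hP).mul (isUnit_det_dag θ hP)
  have hadjX : adj θ P X = X⁻¹ := by
    refine (Matrix.inv_eq_left_inv ?_).symm
    rw [adj, hX, dag_mul, dag_dag θ hθ]
    simp only [Matrix.mul_assoc]
    rw [Matrix.nonsing_inv_mul_cancel_left _ _ hP, Matrix.mul_nonsing_inv_cancel_left _ _ hP, ← dag_mul,
      Matrix.mul_nonsing_inv _ hP, dag_one]
  have hXm : X ∈ Algebra.adjoin K ({X} : Set (Matrix ι ι K)) := Algebra.subset_adjoin rfl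
  obtain ⟨-, h90⟩ := exists_in_adjoin θ hθ hP (S := ({X} : Set (Matrix ι ι K)))
    (by intro a ha b hb; rw [Set.mem_singleton_iff.1 ha, Set.mem_singleton_iff.1 hb])
    (by intro s hs; rw [Set.mem_singleton_iff.1 hs, hadjX]; exact inv_mem hXm hXu)
    (by
      intro s hs
      rw [Set.mem_singleton_iff.1 hs]
      have e : adj θ P (adj θ P X) * adj θ P X = 1 := by
        rw [← adj_mul θ hP, hadjX, Matrix.mul_nonsing_inv _ hXu, adj_one θ hP]
      rw [hadjX] at e ⊢
      rw [← Matrix.mul_nonsing_inv_cancel_right X (adj θ P X⁻¹) hXu]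
      calc adj θ P X⁻¹ * X * X⁻¹ = adj θ P X⁻¹ * X⁻¹ * X := by
            rw [Matrix.mul_assoc, Matrix.mul_assoc, Matrix.mul_nonsing_inv _ hXu, Matrix.nonsing_inv_mul _ hXu]
        _ = X := by rw [e, Matrix.one_mul])
    (E := 0) (zero_mem _) (mul_zero 0) (by simp [adj, dag]) (by
      obtain ⟨a, ha⟩ : ∃ a, θ a ≠ a := by
        by_contra hh'
        push Not at hh'
        exact hne (RingHom.ext hh')
      refine ⟨algebraMap K _ a, Subalgebra.algebraMap_mem _ _, ?_⟩
      rw [adj_algebraMap θ hP, ← map_sub, add_zero, ← Matrix.isUnit_iff_isUnit_det]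
      exact (Ne.isUnit (sub_ne_zero.2 (Ne.symm ha))).map _)
  obtain ⟨C, hC, hCu, hCX⟩ := h90 X hXm rfl (by rw [hadjX, Matrix.mul_nonsing_inv _ hXu])
  have hA2 : dag θ A * dag θ P * A = dag θ P := by
    have := congrArg (dag θ) hA
    rwa [dag_mul, dag_mul, dag_dag θ hθ, ← Matrix.mul_assoc] at this
  have hAX : A * X = X * A := by
    have h2 : dag θ A = P * A⁻¹ * P⁻¹ := by
      have := congrArg (fun M => M * A⁻¹ * P⁻¹) hA
      simp only [Matrix.mul_assoc, Matrix.mul_nonsing_inv _ hP, Matrix.mul_one,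
        Matrix.mul_nonsing_inv_cancel_left _ _ hAu] at this
      rw [this, Matrix.mul_assoc]
    rw [h2] at hA2
    have := congrArg (fun M => A * (P⁻¹ * M)) hA2
    simp only [Matrix.mul_assoc, Matrix.nonsing_inv_mul_cancel_left _ _ hP,
      Matrix.mul_nonsing_inv_cancel_left _ _ hAu] at this
    rw [hX, ← this, Matrix.mul_assoc]
  have hAC : A * C = C * A :=
    Algebra.commute_of_mem_adjoin_of_forall_mem_commute (a := A) hC fun b hb => by rw [Set.mem_singleton_iff.1 hb]; exact hAX
  refine ⟨P * C, by rw [Matrix.det_mul]; exact hP.mul hCu, ?_, ?_⟩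
  · rw [dag_mul]
    conv_rhs => rw [← hCX, adj, hX]
    simp only [Matrix.mul_assoc]
    rw [Matrix.mul_nonsing_inv_cancel_left _ _ hP, Matrix.mul_nonsing_inv_cancel_left _ _ hP]
  · calc dag θ A * (P * C) * A = dag θ A * P * (C * A) := by simp only [Matrix.mul_assoc]
      _ = dag θ A * P * A * C := by rw [← hAC]; simp only [Matrix.mul_assoc]
      _ = P * C := by rw [hA]

end CfsgLib.FormConj
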