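import Cfsg.Agent.Hermitian.Basic

/-!
Norms in finite commutative rings with an involution that is non-trivial on every residue field.
-/

set_option autoImplicit false

namespace CfsgLib.FormConj

variable {R : Type*} [CommRing R]

/-- Non-trivial on residue fields. -/
def Moving (σ : R ≃+* R) : Prop := ∀ M : Ideal R, M.IsMaximal → ∃ r, r - σ r ∉ M

theorem moving_of_unit {σ : R ≃+* R} {r : R} (h : IsUnit (r - σ r)) : Moving σ := fun M hM =>
  ⟨r, fun hr => hM.ne_top (M.eq_top_of_isUnit_mem hr h)⟩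

variable (σ : R ≃+* R) (hσ : ∀ r, σ (σ r) = r)
include hσ

theorem exists_trace_one (hm : Moving σ) : ∃ x, x + σ x = 1 := by
  let T : R → Prop := fun t => ∃ x, x + σ x = t
  have Tadd : ∀ {a b}, T a → T b → T (a + b) := fun {a b} ⟨x, hx⟩ ⟨y, hy⟩ =>
    ⟨x + y, by rw [map_add, ← hx, ← hy]; ring⟩
  have Tmul : ∀ {a c}, σ c = c → T a → T (c * a) := fun {a c} hc ⟨x, hx⟩ =>
    ⟨c * x, by rw [map_mul, hc, ← hx]; ring⟩
  let J : Ideal R :=
    { carrier := {a | T (a * σ a)}
      add_mem' := fun {a b} (ha : T _) (hb : T _) => by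
        show T ((a + b) * σ (a + b))
        rw [show (a + b) * σ (a + b) = a * σ a + b * σ b + (a * σ b + σ (a * σ b)) by
          rw [map_add, map_mul, hσ]; ring]
        exact Tadd (Tadd ha hb) ⟨_, rfl⟩
      zero_mem' := ⟨0, by simp⟩
      smul_mem' := fun c a (ha : T _) => by
        show T (c • a * σ (c • a))
        rw [smul_eq_mul, map_mul, show c * a * (σ c * σ a) = c * σ c * (a * σ a) by ring]
        exact Tmul (by rw [map_mul, hσ, mul_comm]) ha }
  have hTJ : ∀ x, x + σ x ∈ J := fun x => by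
    show T ((x + σ x) * σ (x + σ x))
    have hf : σ (x + σ x) = x + σ x := by rw [map_add, hσ, add_comm]
    rw [hf]
    exact Tmul hf ⟨x, rfl⟩
  by_cases hJ : J = ⊤
  · have h1 : T (1 * σ 1) := (show (1 : R) ∈ J by rw [hJ]; trivial)
    rwa [map_one, mul_one] at h1
  · exfalso
    obtain ⟨M, hM, hJM⟩ := J.exists_le_maximal hJ
    obtain ⟨r, hr⟩ := hm M hM
    refine hr ?_
    have h1 := M.mul_mem_right (σ r) (hJM (hTJ 1))
    rw [map_one] at h1
    have h3 := M.sub_mem (hJM (hTJ r)) h1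
    rwa [show r + σ r - (1 + 1) * σ r = r - σ r by ring] at h3

variable [Finite R]

theorem exists_norm_unipotent (hm : Moving σ) {z : R} (hz : IsNilpotent z) (hzf : σ z = z) :
    ∃ c, c * σ c = 1 + z := by
  obtain ⟨x, hx⟩ := exists_trace_one σ hσ hm
  let P := {w : R // IsNilpotent w ∧ σ w = w}
  have hn : σ (x * σ x) = x * σ x := by rw [map_mul, hσ, mul_comm]
  let f : P → P := fun w => ⟨w.1 + x * σ x * (w.1 * w.1),
    (Commute.all _ _).isNilpotent_add w.2.1
      ((Commute.all _ _).isNilpotent_mul_left ((Commute.all _ _).isNilpotent_mul_left w.2.1)), by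
    rw [map_add, map_mul, map_mul σ w.1, hn, w.2.2]⟩
  have hinj : Function.Injective f := fun a b h => by
    have h' : a.1 + x * σ x * (a.1 * a.1) = b.1 + x * σ x * (b.1 * b.1) := congrArg Subtype.val h
    have h1 : (1 + x * σ x * (a.1 + b.1)) * (a.1 - b.1) = 0 := by linear_combination h'
    have hu : IsUnit (1 + x * σ x * (a.1 + b.1)) :=
      ((Commute.all _ _).isNilpotent_mul_left ((Commute.all _ _).isNilpotent_add a.2.1 b.2.1)).isUnit_one_add
    exact Subtype.ext (sub_eq_zero.1 (hu.mul_right_eq_zero.1 h1))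
  obtain ⟨⟨w, hw, hwf⟩, hwz⟩ := (Finite.injective_iff_surjective.1 hinj) ⟨z, hz, hzf⟩
  have hwz' : w + x * σ x * (w * w) = z := congrArg Subtype.val hwz
  refine ⟨1 + w * x, ?_⟩
  rw [map_add, map_one, map_mul, hwf]
  linear_combination w * hx + hwz'

omit hσ in
/-- Values prescribed at all maximal ideals. -/
theorem exists_residues (y : MaximalSpectrum R → R) : ∃ c : R, ∀ M : MaximalSpectrum R, c - y M ∈ M.asIdeal :=
  Ideal.exists_forall_sub_mem_ideal (fun M N hMN => Ideal.isCoprime_of_isMaximal fun h => hMN (MaximalSpectrum.ext h)) y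

omit hσ [Finite R] in
theorem image_isMaximal (M : MaximalSpectrum R) : (M.asIdeal.comap (σ : R →+* R)).IsMaximal :=
  Ideal.comap_isMaximal_of_surjective _ σ.surjective

/-- The permutation of the maximal ideals. -/
def mapMax (M : MaximalSpectrum R) : MaximalSpectrum R :=
  ⟨M.asIdeal.comap (σ : R →+* R), image_isMaximal σ M⟩

theorem mem_mapMax (M : MaximalSpectrum R) (a : R) : σ a ∈ (mapMax σ M).asIdeal ↔ a ∈ M.asIdeal := by
  show σ (σ a) ∈ M.asIdeal ↔ _
  rw [hσ]

theorem mapMax_mapMax (M : MaximalSpectrum R) : mapMax σ (mapMax σ M) = M := by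
  refine MaximalSpectrum.ext ?_
  ext a
  show σ (σ a) ∈ M.asIdeal ↔ _
  rw [hσ]

/-- The action on a fixed residue field. -/
theorem exists_residue_auto (hm : Moving σ) {M : MaximalSpectrum R} (hM : mapMax σ M = M) :
    ∃ τ : (R ⧸ M.asIdeal) →+* R ⧸ M.asIdeal, (∀ a, τ (Ideal.Quotient.mk _ a) = Ideal.Quotient.mk _ (σ a)) ∧
      τ ≠ RingHom.id _ ∧ ∀ a, τ (τ a) = a := by
  have hcomap : ∀ a, σ a ∈ M.asIdeal ↔ a ∈ M.asIdeal := fun a => by
    conv_lhs => rw [← hM]
    exact mem_mapMax σ hσ M a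
  let τ : (R ⧸ M.asIdeal) →+* R ⧸ M.asIdeal :=
    Ideal.quotientMap M.asIdeal (σ : R →+* R) fun a ha => (hcomap a).2 ha
  have hτ : ∀ a, τ (Ideal.Quotient.mk _ a) = Ideal.Quotient.mk _ (σ a) := fun a => rfl
  refine ⟨τ, hτ, fun h => ?_, fun a => ?_⟩
  · obtain ⟨r, hr⟩ := hm M.asIdeal M.isMaximal
    refine hr (Ideal.Quotient.eq.1 ?_)
    rw [← hτ, h, RingHom.id_apply]
  · obtain ⟨a, rfl⟩ := Ideal.Quotient.mk_surjective a
    rw [hτ, hτ, hσ]

/-- The norm is surjective on fixed units. -/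
theorem exists_norm_eq (hm : Moving σ) {h : R} (hu : IsUnit h) (hf : σ h = h) :
    ∃ c, IsUnit c ∧ c * σ c = h := by
  classical
  haveI := Fintype.ofFinite (MaximalSpectrum R)
  let e := Fintype.equivFin (MaximalSpectrum R)
  have hsel : ∀ M : MaximalSpectrum R, ∃ y : R,
      (mapMax σ M = M → y * σ y - h ∈ M.asIdeal) ∧
      (mapMax σ M ≠ M → y = if e M < e (mapMax σ M) then h else 1) := by
    intro M
    by_cases hM : mapMax σ M = M
    · obtain ⟨τ, hτ, hne, hττ⟩ := exists_residue_auto σ hσ hm hM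
      letI := Ideal.Quotient.field M.asIdeal
      haveI : Finite (R ⧸ M.asIdeal) := Finite.of_surjective _ Ideal.Quotient.mk_surjective
      have h0 : Ideal.Quotient.mk M.asIdeal h ≠ 0 := fun h0 =>
        M.isMaximal.ne_top (M.asIdeal.eq_top_of_isUnit_mem (Ideal.Quotient.eq_zero_iff_mem.1 h0) hu)
      obtain ⟨c, -, hc⟩ := CfsgLib.Hermitian.exists_norm hne hττ h0 (by rw [hτ, hf])
      obtain ⟨y, rfl⟩ := Ideal.Quotient.mk_surjective c
      refine ⟨y, fun _ => ?_, fun h' => absurd hM h'⟩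
      rw [← Ideal.Quotient.eq_zero_iff_mem, map_sub, map_mul, ← hτ, mul_comm, hc, sub_self]
    · exact ⟨_, fun h' => absurd h' hM, fun _ => rfl⟩
  choose y hy1 hy2 using hsel
  obtain ⟨c, hc⟩ := exists_residues y
  have hmem : ∀ M : MaximalSpectrum R, c * σ c - h ∈ M.asIdeal := by
    intro M
    by_cases hM : mapMax σ M = M
    · have h1 : σ c - σ (y M) ∈ M.asIdeal := by
        rw [← map_sub]
        have := (mem_mapMax σ hσ M _).2 (hc M)
        rwa [hM] at this
      have h3 := M.asIdeal.add_mem (M.asIdeal.mul_mem_right (σ c) (hc M))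
        (M.asIdeal.add_mem (M.asIdeal.mul_mem_left (y M) h1) (hy1 M hM))
      rwa [show (c - y M) * σ c + (y M * (σ c - σ (y M)) + (y M * σ (y M) - h)) = c * σ c - h by ring] at h3
    · set N := mapMax σ M with hN
      have hNN : mapMax σ N = M := mapMax_mapMax σ hσ M
      have h1 : σ c - σ (y N) ∈ M.asIdeal := by
        rw [← map_sub, ← hNN]
        exact (mem_mapMax σ hσ N _).2 (hc N)
      have hprod : y M * σ (y N) = h := by
        rw [hy2 M hM, hy2 N (by rw [hNN]; exact Ne.symm hM), hNN, ← hN]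
        rcases lt_trichotomy (e M) (e N) with hlt | heq | hgt
        · rw [if_pos hlt, if_neg hlt.not_gt, map_one, mul_one]
        · exact absurd (e.injective heq).symm hM
        · rw [if_neg hgt.not_gt, if_pos hgt, hf, one_mul]
      have h3 := M.asIdeal.add_mem (M.asIdeal.mul_mem_right (σ c) (hc M)) (M.asIdeal.mul_mem_left (y M) h1)
      rwa [show (c - y M) * σ c + y M * (σ c - σ (y N)) = c * σ c - h by rw [← hprod]; ring] at h3
  have hnil : IsNilpotent (c * σ c - h) := by
    rw [nilpotent_iff_mem_prime]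
    intro P hP
    haveI := hP
    exact hmem ⟨P, IsArtinianRing.isMaximal_of_isPrime P⟩
  have hcu : IsUnit (c * σ c) := by
    rw [show c * σ c = h + (c * σ c - h) by ring]
    exact hnil.isUnit_add_left_of_commute hu (Commute.all _ _)
  obtain ⟨v, hv⟩ := hcu
  have hvf : σ (c * σ c) = c * σ c := by rw [map_mul, hσ, mul_comm]
  have hvi : σ (↑v⁻¹ : R) = ↑v⁻¹ := by
    have e1 : (↑v⁻¹ : R) * (c * σ c) = 1 := by rw [← hv, Units.inv_mul]
    have e2 : σ (↑v⁻¹ : R) * (c * σ c) = 1 := by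
      conv_lhs => rw [← hvf]
      rw [← map_mul, e1, map_one]
    calc σ (↑v⁻¹ : R) = σ (↑v⁻¹ : R) * ((c * σ c) * ↑v⁻¹) := by rw [mul_comm (c * σ c), e1, mul_one]
      _ = ↑v⁻¹ := by rw [← mul_assoc, e2, one_mul]
  obtain ⟨d, hd⟩ := exists_norm_unipotent σ hσ hm (z := (↑v⁻¹ : R) * h - 1)
    (by
      have : (↑v⁻¹ : R) * h - 1 = (↑v⁻¹ : R) * -(c * σ c - h) := by
        rw [neg_sub, mul_sub, ← hv, Units.inv_mul]
      rw [this]
      exact (Commute.all _ _).isNilpotent_mul_left hnil.neg)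
    (by rw [map_sub, map_mul, hvi, hf, map_one])
  rw [add_sub_cancel] at hd
  refine ⟨c * d, isUnit_of_mul_isUnit_left (y := σ (c * d)) ?_, ?_⟩
  · rw [map_mul, show c * d * (σ c * σ d) = c * σ c * (d * σ d) by ring, hd, ← hv, Units.mul_inv_cancel_left]
    exact hu
  · rw [map_mul, show c * d * (σ c * σ d) = c * σ c * (d * σ d) by ring, hd, ← hv, Units.mul_inv_cancel_left]

/-- Hilbert's Theorem 90. -/
theorem exists_quotient_eq (hm : Moving σ) {u : R} (hu : u * σ u = 1) :
    ∃ c, IsUnit c ∧ u * σ c = c := by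
  classical
  haveI := Fintype.ofFinite (MaximalSpectrum R)
  let e := Fintype.equivFin (MaximalSpectrum R)
  have huu : IsUnit u := IsUnit.of_mul_eq_one _ hu
  have hsel : ∀ M : MaximalSpectrum R, ∃ y : R,
      (mapMax σ M = M → y + u * σ y ∉ M.asIdeal) ∧
      (mapMax σ M ≠ M → y = if e M < e (mapMax σ M) then 1 else 0) := by
    intro M
    by_cases hM : mapMax σ M = M
    · obtain ⟨r, hr⟩ := hm M.asIdeal M.isMaximal
      by_cases h1 : (1 : R) + u * σ 1 ∈ M.asIdeal
      · refine ⟨r, fun _ h => hr ?_, fun h' => absurd hM h'⟩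
        rw [map_one, mul_one] at h1
        have := M.asIdeal.sub_mem h (M.asIdeal.mul_mem_right (σ r) h1)
        rwa [show r + u * σ r - (1 + u) * σ r = r - σ r by ring] at this
      · exact ⟨1, fun _ => h1, fun h' => absurd hM h'⟩
    · exact ⟨_, fun h' => absurd h' hM, fun _ => rfl⟩
  choose y hy1 hy2 using hsel
  obtain ⟨z, hz⟩ := exists_residues y
  refine ⟨z + u * σ z, ?_, ?_⟩
  · by_contra hnu
    obtain ⟨P, hP, hzP⟩ := exists_max_ideal_of_mem_nonunits hnu
    set M : MaximalSpectrum R := ⟨P, hP⟩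
    set N := mapMax σ M with hN
    have hNN : mapMax σ N = M := mapMax_mapMax σ hσ M
    have h1 : σ z - σ (y N) ∈ M.asIdeal := by
      rw [← map_sub, ← hNN]
      exact (mem_mapMax σ hσ N _).2 (hz N)
    have h3 : y M + u * σ (y N) ∈ M.asIdeal := by
      have := M.asIdeal.sub_mem (M.asIdeal.sub_mem hzP (hz M)) (M.asIdeal.mul_mem_left u h1)
      rwa [show z + u * σ z - (z - y M) - u * (σ z - σ (y N)) = y M + u * σ (y N) by ring] at this
    by_cases hM : N = M
    · rw [hM] at h3; exact hy1 M hM h3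
    · rw [hy2 M hM, hy2 N (by rw [hNN]; exact Ne.symm hM), hNN, ← hN] at h3
      rcases lt_trichotomy (e M) (e N) with hlt | heq | hgt
      · rw [if_pos hlt, if_neg hlt.not_gt, map_zero, mul_zero, add_zero] at h3
        exact hP.ne_top ((Ideal.eq_top_iff_one _).2 h3)
      · exact hM (e.injective heq).symm
      · rw [if_neg hgt.not_gt, if_pos hgt, map_one, mul_one, zero_add] at h3
        exact hP.ne_top (P.eq_top_of_isUnit_mem h3 huu)
  · rw [map_add, map_mul, hσ]
    linear_combination z * hu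

/-- The norm is surjective on fixed units congruent to `1` modulo a fixed idempotent corner. -/
theorem exists_norm_corner {e r : R} (he : e * e = e) (hef : σ e = e) (hr : IsUnit (r - σ r + e)) {h : R}
    (hu : IsUnit h) (hf : σ h = h) (heh : h * e = e) : ∃ c, IsUnit c ∧ c * σ c = h := by
  let I : Ideal R := Ideal.span {e}
  have hI : I = I.map (σ : R →+* R) := by
    rw [Ideal.map_span, Set.image_singleton, RingEquiv.coe_toRingHom, hef]
  let τ : R ⧸ I ≃+* R ⧸ I := Ideal.quotientEquiv I I σ hI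
  have hτ : ∀ a, τ (Ideal.Quotient.mk I a) = Ideal.Quotient.mk I (σ a) := fun a => rfl
  have hττ : ∀ a, τ (τ a) = a := fun a => by
    obtain ⟨a, rfl⟩ := Ideal.Quotient.mk_surjective a
    rw [hτ, hτ, hσ]
  have he0 : Ideal.Quotient.mk I e = 0 := Ideal.Quotient.eq_zero_iff_mem.2 (Ideal.mem_span_singleton_self e)
  have hm : Moving τ := moving_of_unit (r := Ideal.Quotient.mk I r) (by
    rw [hτ, ← map_sub, ← add_zero (Ideal.Quotient.mk I (r - σ r)), ← he0, ← map_add]
    exact hr.map _)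
  haveI : Finite (R ⧸ I) := Finite.of_surjective _ Ideal.Quotient.mk_surjective
  obtain ⟨d, -, hd⟩ := exists_norm_eq τ hττ hm (hu.map (Ideal.Quotient.mk I)) (by rw [hτ, hf])
  obtain ⟨d, rfl⟩ := Ideal.Quotient.mk_surjective d
  rw [hτ, ← map_mul, Ideal.Quotient.eq, Ideal.mem_span_singleton] at hd
  obtain ⟨a, ha⟩ := hd
  have hc : (e + (1 - e) * d) * σ (e + (1 - e) * d) = h := by
    rw [map_add, map_mul, map_sub, map_one, hef]
    linear_combination (1 - e) * ha + (d * σ d - d - σ d + 1 - a) * he - heh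
  exact ⟨_, isUnit_of_mul_isUnit_left (hc.symm ▸ hu), hc⟩

end CfsgLib.FormConj
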