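import Cfsg.Agent.FormConj.Semisimple
import Cfsg.Agent.Forms.Witt

/-!
Semisimple isometries of odd order of a quadratic form.
-/

set_option autoImplicit false

open Matrix QuadraticMap

namespace CfsgLib.FormConj

variable {K : Type*} [Field K] [Finite K] {n : ℕ}

omit [Finite K] in
theorem avg_sq_of_odd {A : Matrix (Fin n) (Fin n) K} {k : ℕ} (hk : (k : K) ≠ 0) (hA : A ^ k = 1) (hodd : Odd k) :
    avg (A * A) k = avg A k := by
  have hAA : (A * A) ^ k = 1 := by rw [(Commute.refl A).mul_pow, hA, one_mul]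
  have h1 : avg (A * A) k * avg A k = avg A k := avg_mul_of_fix hk (by rw [Matrix.mul_assoc, mul_avg hA, mul_avg hA])
  have hfix : ∀ i, (A * A) ^ i * avg (A * A) k = avg (A * A) k := fun i => by
    induction i with
    | zero => simp
    | succ i ih => rw [pow_succ, Matrix.mul_assoc, mul_avg hAA, ih]
  obtain ⟨j, hj⟩ := hodd
  have hAj : (A * A) ^ (j + 1) = A := by
    rw [← _root_.sq, ← pow_mul, show 2 * (j + 1) = k + 1 by omega, pow_succ, hA, one_mul]
  have h2 : avg A k * avg (A * A) k = avg (A * A) k := avg_mul_of_fix hk (by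
    conv_lhs => arg 1; rw [← hAj]
    exact hfix _)
  have hA2 : A * avg (A * A) k = avg (A * A) k * A := avg_semiconj (Matrix.mul_assoc A A A).symm
  have hc : avg A k * avg (A * A) k = avg (A * A) k * avg A k := (avg_semiconj hA2.symm).symm
  rw [← h2, hc, h1]

/-- Similar semisimple isometries of odd order are conjugate by an isometry. -/
theorem exists_orth_conj (Q : QuadraticForm K (Fin n → K)) (hQ : (polarBilin Q).Nondegenerate)
    {A B P : Matrix (Fin n) (Fin n) K} {k : ℕ} (hk : (k : K) ≠ 0) (hAk : A ^ k = 1) (hodd : Odd k)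
    (hA : ∀ v, Q (A *ᵥ v) = Q v) (hB : ∀ v, Q (B *ᵥ v) = Q v) (hP : IsUnit P.det) (hPA : P * A = B * P) :
    ∃ g : (Fin n → K) ≃ₗ[K] (Fin n → K), (∀ v, Q (g v) = Q v) ∧ ∀ v, g (A *ᵥ v) = B *ᵥ g v := by
  classical
  obtain ⟨G, hGdef⟩ : ∃ G, G = LinearMap.toMatrix₂' K (polarBilin Q) := ⟨_, rfl⟩
  have hGp : ∀ x y, x ⬝ᵥ (G *ᵥ y) = polar Q x y := fun x y => by
    rw [← Matrix.toLinearMap₂'_apply', hGdef, Matrix.toLinearMap₂'_toMatrix', polarBilin_apply_apply]
  have hG : IsUnit G.det := by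
    rw [← Matrix.isUnit_iff_isUnit_det, ← Matrix.mulVec_injective_iff_isUnit]
    refine (injective_iff_map_eq_zero G.mulVecLin).2 fun v hv => hQ.2 v fun w => ?_
    rw [Matrix.mulVecLin_apply] at hv
    rw [polarBilin_apply_apply, ← hGp, hv, dotProduct_zero]
  have hGs : Gᵀ = G := by
    ext i j
    rw [Matrix.transpose_apply, hGdef, LinearMap.toMatrix₂'_apply, LinearMap.toMatrix₂'_apply,
      polarBilin_apply_apply, polarBilin_apply_apply, polar_comm]
  have hiso : ∀ X : Matrix (Fin n) (Fin n) K, (∀ v, Q (X *ᵥ v) = Q v) → Xᵀ * G * X = G := fun X hX => by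
    refine Matrix.ext_of_mulVec_single fun i => dotProduct_eq _ _ fun u => ?_
    rw [dotProduct_comm, dotProduct_comm _ u]
    set v : Fin n → K := Pi.single i 1
    rw [← Matrix.mulVec_mulVec, ← Matrix.mulVec_mulVec, Matrix.dotProduct_mulVec u Xᵀ, Matrix.vecMul_transpose,
      hGp, hGp]
    simp only [polar, ← Matrix.mulVec_add, hX]
  obtain ⟨E, hEdef⟩ : ∃ E, E = avg A k := ⟨_, rfl⟩
  obtain ⟨G', hG'def⟩ : ∃ X, X = Pᵀ * G * P := ⟨_, rfl⟩
  have hA' : Aᵀ * G' * A = G' := by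
    calc Aᵀ * G' * A = (P * A)ᵀ * G * (P * A) := by rw [hG'def, Matrix.transpose_mul]; simp only [Matrix.mul_assoc]
      _ = Pᵀ * (Bᵀ * G * B) * P := by rw [hPA, Matrix.transpose_mul]; simp only [Matrix.mul_assoc]
      _ = G' := by rw [hiso B hB, hG'def]
  have hEG := avg_adj hk hAk (hiso A hA)
  have hEG' := avg_adj hk hAk hA'
  rw [← hEdef] at hEG hEG'
  have hE2 : E * E = E := hEdef ▸ avg_idem hk hAk
  have hAE : A * E = E := hEdef ▸ mul_avg hAk
  have hEA : E * A = E := hEdef ▸ avg_mul hAk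
  obtain ⟨H, hHdef⟩ : ∃ X, X = G' * (1 - E) + G * E := ⟨_, rfl⟩
  have hHE : H * E = G * E := by
    rw [hHdef, Matrix.add_mul, Matrix.mul_assoc, Matrix.mul_assoc, Matrix.sub_mul, Matrix.one_mul, hE2, sub_self,
      Matrix.mul_zero, zero_add]
  have hEH : Eᵀ * H = G * E := by
    rw [hHdef, Matrix.mul_add, ← Matrix.mul_assoc, ← Matrix.mul_assoc, hEG', hEG, Matrix.mul_assoc, Matrix.mul_assoc,
      Matrix.mul_sub, Matrix.mul_one, hE2, sub_self, Matrix.mul_zero, zero_add]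
  have hHu : IsUnit H.det := by
    rw [← Matrix.isUnit_iff_isUnit_det, ← Matrix.mulVec_injective_iff_isUnit]
    refine (injective_iff_map_eq_zero H.mulVecLin).2 fun v hv => ?_
    rw [Matrix.mulVecLin_apply] at hv
    have h1 : (G * E) *ᵥ v = 0 := by rw [← hEH, ← Matrix.mulVec_mulVec, hv, Matrix.mulVec_zero]
    have h2 : G' *ᵥ v = 0 := by
      have h3 : (G' * E) *ᵥ v = 0 := by
        have hEv : E *ᵥ v = 0 := (Matrix.mulVec_injective_iff_isUnit.2 ((Matrix.isUnit_iff_isUnit_det _).2 hG))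
          (by rw [Matrix.mulVec_mulVec, h1, Matrix.mulVec_zero])
        rw [← Matrix.mulVec_mulVec, hEv, Matrix.mulVec_zero]
      rw [hHdef, Matrix.add_mulVec, h1, add_zero, Matrix.mul_sub, Matrix.mul_one, Matrix.sub_mulVec, h3, sub_zero] at hv
      exact hv
    rw [hG'def] at h2
    exact (Matrix.mulVec_injective_iff_isUnit.2 ((Matrix.isUnit_iff_isUnit_det _).2 (isUnit_congr hG hP)))
      (h2.trans (Matrix.mulVec_zero _).symm)
  have hHs : Hᵀ = H := by
    rw [hHdef, Matrix.transpose_add, Matrix.transpose_mul, Matrix.transpose_mul, hGs,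
      show G'ᵀ = G' by rw [hG'def, Matrix.transpose_mul, Matrix.transpose_mul, hGs, Matrix.transpose_transpose, Matrix.mul_assoc],
      Matrix.transpose_sub, Matrix.transpose_one, Matrix.sub_mul, Matrix.one_mul, hEG', hEG, Matrix.mul_sub, Matrix.mul_one]
  have hAH : Aᵀ * H * A = H := by
    rw [hHdef, Matrix.mul_add, Matrix.add_mul]
    congr 1
    · calc Aᵀ * (G' * (1 - E)) * A = Aᵀ * G' * ((1 - E) * A) := by simp only [Matrix.mul_assoc]
        _ = Aᵀ * G' * A * (1 - E) := by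
          rw [Matrix.mul_assoc (Aᵀ * G') A, Matrix.sub_mul, Matrix.mul_sub A, hEA, hAE, Matrix.one_mul, Matrix.mul_one]
        _ = G' * (1 - E) := by rw [hA']
    · calc Aᵀ * (G * E) * A = Aᵀ * G * A * E := by
            rw [Matrix.mul_assoc (Aᵀ * G) A, hAE]; simp only [Matrix.mul_assoc, hEA]
        _ = G * E := by rw [hiso A hA]
  obtain ⟨C, hC, hCA, hCH⟩ := exists_congr_corner (RingHom.id K) (fun _ => rfl) (G := G) (G' := H) (A := A)
    (ε := 1) hG hHu (by rw [dag_id, hGs, one_smul]) (by rw [dag_id, hHs, one_smul])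
    (by rw [dag_id]; exact hiso A hA) (by rw [dag_id]; exact hAH)
    (E := E) (hEdef ▸ avg_mem) hE2 (by rw [adj, dag_id, Matrix.mul_assoc, hEG, Matrix.nonsing_inv_mul_cancel_left _ _ hG])
    hHE (Or.inr (by rw [hEdef, ← avg_sq_of_odd hk hAk hodd]; exact det_moving hk hAk))
  rw [dag_id] at hCH
  have hCE : C * E = E * C := hEdef ▸ avg_semiconj hCA
  let X : Submodule K (Fin n → K) := LinearMap.ker E.mulVecLin
  have hX : ∀ m, m ∈ X ↔ E *ᵥ m = 0 := fun m => Iff.rfl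
  have hXA : ∀ m, m ∈ X → A *ᵥ m ∈ X := fun m hm => by
    rw [hX, Matrix.mulVec_mulVec, hEA]; exact hm
  have hN : IsUnit (A - 1 + E) := by
    rw [← Matrix.mulVec_injective_iff_isUnit]
    refine (injective_iff_map_eq_zero (A - 1 + E).mulVecLin).2 fun v hv => ?_
    rw [Matrix.mulVecLin_apply] at hv
    have hEv : E *ᵥ v = 0 := by
      have := congrArg (fun x => E *ᵥ x) hv
      simp only [Matrix.mulVec_mulVec, Matrix.mul_add, Matrix.mul_sub, hEA, Matrix.mul_one, sub_self, hE2, zero_add,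
        Matrix.mulVec_zero] at this
      exact this
    rw [Matrix.add_mulVec, hEv, add_zero, Matrix.sub_mulVec, Matrix.one_mulVec, sub_eq_zero] at hv
    have hp : ∀ i, A ^ i *ᵥ v = v := fun i => by
      induction i with
      | zero => simp
      | succ i ih => rw [pow_succ, ← Matrix.mulVec_mulVec, hv, ih]
    rw [hEdef, avg, Matrix.smul_mulVec, Matrix.sum_mulVec, Finset.sum_congr rfl fun i _ => hp i, Finset.sum_const,
      Finset.card_range, ← Nat.cast_smul_eq_nsmul K, smul_smul, inv_mul_cancel₀ hk, one_smul] at hEv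
    exact hEv
  have hpol : ∀ a b, a ∈ X → b ∈ X → polar Q (C *ᵥ a) (C *ᵥ b) = polar Q (P *ᵥ a) (P *ᵥ b) := fun a b ha hb => by
    rw [hX] at hb
    rw [← hGp, ← hGp, ← Matrix.vecMul_transpose C a, ← Matrix.vecMul_transpose P a, ← Matrix.dotProduct_mulVec,
      ← Matrix.dotProduct_mulVec, Matrix.mulVec_mulVec, Matrix.mulVec_mulVec, Matrix.mulVec_mulVec,
      Matrix.mulVec_mulVec, hCH, ← hG'def, hHdef, Matrix.mul_sub, Matrix.mul_one, Matrix.add_mulVec, Matrix.sub_mulVec,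
      ← Matrix.mulVec_mulVec b G' E, ← Matrix.mulVec_mulVec b G E, hb, Matrix.mulVec_zero, Matrix.mulVec_zero,
      sub_zero, add_zero]
  have hQX : ∀ m, m ∈ X → Q (C *ᵥ m) = Q (P *ᵥ m) := fun m hm => by
    obtain ⟨a, ha⟩ := Matrix.mulVec_surjective_iff_isUnit.2 hN m
    have haX : a ∈ X := by
      rw [hX]
      have := congrArg (fun x => E *ᵥ x) ha
      simp only [Matrix.mulVec_mulVec, Matrix.mul_add, Matrix.mul_sub, hEA, Matrix.mul_one, sub_self, hE2, zero_add] at this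
      rw [this]
      exact (hX m).1 hm
    have hAa : A *ᵥ a = a + m := by
      rw [← ha, Matrix.add_mulVec, (hX a).1 haX, add_zero, Matrix.sub_mulVec, Matrix.one_mulVec, add_sub_cancel]
    have e1 : Q (C *ᵥ (A *ᵥ a)) = Q (C *ᵥ a) := by rw [Matrix.mulVec_mulVec, hCA, ← Matrix.mulVec_mulVec, hA]
    have e2 : Q (P *ᵥ (A *ᵥ a)) = Q (P *ᵥ a) := by rw [Matrix.mulVec_mulVec, hPA, ← Matrix.mulVec_mulVec, hB]
    rw [hAa, Matrix.mulVec_add, QuadraticMap.map_add (⇑Q)] at e1 e2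
    linear_combination e1 - e2 - hpol a m haX hm
  let φ : X →ₗ[K] (Fin n → K) := (P * C⁻¹).mulVecLin.domRestrict X
  have hφ : ∀ m, m ∈ X → C⁻¹ *ᵥ m ∈ X := fun m hm => by
    rw [hX] at hm ⊢
    rw [Matrix.mulVec_mulVec, show E * C⁻¹ = C⁻¹ * E by
      calc E * C⁻¹ = C⁻¹ * (C * E) * C⁻¹ := by rw [Matrix.nonsing_inv_mul_cancel_left _ _ hC]
        _ = C⁻¹ * E := by rw [hCE, Matrix.mul_assoc, Matrix.mul_assoc, Matrix.mul_nonsing_inv _ hC, Matrix.mul_one],
      ← Matrix.mulVec_mulVec, hm, Matrix.mulVec_zero]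
  obtain ⟨g, hg, hgX⟩ := CfsgLib.Forms.witt hQ X φ (fun a b hab => Subtype.ext
    ((Matrix.mulVec_injective_iff_isUnit.2 ((Matrix.isUnit_iff_isUnit_det _).2 (by
      rw [Matrix.det_mul]; exact hP.mul (Matrix.isUnit_nonsing_inv_det _ hC)))) hab))
    (fun m => by
      show Q ((P * C⁻¹) *ᵥ (m : Fin n → K)) = Q m
      rw [← Matrix.mulVec_mulVec, ← hQX _ (hφ _ m.2), Matrix.mulVec_mulVec, Matrix.mul_nonsing_inv _ hC,
        Matrix.one_mulVec])
  have hgm : ∀ m, m ∈ X → g m = (P * C⁻¹) *ᵥ m := fun m hm => hgX ⟨m, hm⟩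
  have hfix : ∀ v, B *ᵥ g (E *ᵥ v) = g (E *ᵥ v) := fun v => by
    refine sub_eq_zero.1 (hQ.1 _ fun y => ?_)
    have hBu : IsUnit B.det := by
      have h := congrArg Matrix.det hPA
      rw [Matrix.det_mul, Matrix.det_mul] at h
      exact isUnit_of_mul_isUnit_left (y := P.det) (h ▸ hP.mul (det_isUnit_of_pow hk hAk))
    obtain ⟨z, rfl⟩ := Matrix.mulVec_surjective_iff_isUnit.2 ((Matrix.isUnit_iff_isUnit_det _).2 (hBu.mul hP |> fun h => (Matrix.det_mul B P).symm ▸ h)) y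
    set m := z - A *ᵥ z with hm
    have hmX : C *ᵥ m ∈ X := by
      rw [hX, Matrix.mulVec_mulVec, ← hCE, ← Matrix.mulVec_mulVec, hm, Matrix.mulVec_sub, Matrix.mulVec_mulVec, hEA,
        sub_self, Matrix.mulVec_zero]
    have h1 : g (C *ᵥ m) = P *ᵥ z - (B * P) *ᵥ z := by
      rw [hgm _ hmX, Matrix.mulVec_mulVec, Matrix.mul_assoc, Matrix.nonsing_inv_mul _ hC, Matrix.mul_one, hm,
        Matrix.mulVec_sub, Matrix.mulVec_mulVec, hPA]
    have h2 : polar Q (g (E *ᵥ v)) (g (C *ᵥ m)) = 0 := by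
      rw [CfsgLib.Forms.isom_polar (g := g) hg, ← hGp, ← Matrix.vecMul_transpose E v, ← Matrix.dotProduct_mulVec,
        Matrix.mulVec_mulVec _ Eᵀ G, hEG, ← Matrix.mulVec_mulVec, (hX _).1 hmX, Matrix.mulVec_zero, dotProduct_zero]
    rw [h1, polar_sub_right] at h2
    rw [polarBilin_apply_apply, polar_sub_left, ← Matrix.mulVec_mulVec]
    rw [show polar Q (B *ᵥ g (E *ᵥ v)) (B *ᵥ (P *ᵥ z)) = polar Q (g (E *ᵥ v)) (P *ᵥ z) by
      simp only [polar, ← Matrix.mulVec_add, hB], Matrix.mulVec_mulVec]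
    exact h2
  refine ⟨g, hg, fun v => ?_⟩
  have hv : (1 - E) *ᵥ v ∈ X := by
    rw [hX, Matrix.mulVec_mulVec, Matrix.mul_sub, Matrix.mul_one, hE2, sub_self, Matrix.zero_mulVec]
  have hsplit : v = (1 - E) *ᵥ v + E *ᵥ v := by rw [← Matrix.add_mulVec, sub_add_cancel, Matrix.one_mulVec]
  conv_lhs => rw [hsplit, Matrix.mulVec_add, map_add, Matrix.mulVec_mulVec v A E, hAE, hgm _ (hXA _ hv)]
  conv_rhs => rw [hsplit, map_add, Matrix.mulVec_add, hfix, hgm _ hv]
  congr 1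
  have hCi : C⁻¹ * A = A * C⁻¹ := by
    calc C⁻¹ * A = C⁻¹ * (A * C) * C⁻¹ := by
          rw [Matrix.mul_assoc, Matrix.mul_assoc, Matrix.mul_nonsing_inv _ hC, Matrix.mul_one]
      _ = A * C⁻¹ := by rw [← hCA, Matrix.nonsing_inv_mul_cancel_left _ _ hC]
  rw [Matrix.mulVec_mulVec _ (P * C⁻¹) A, Matrix.mul_assoc, hCi, ← Matrix.mul_assoc, hPA, Matrix.mul_assoc,
    ← Matrix.mulVec_mulVec]

end CfsgLib.FormConj
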