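import Cfsg.Agent.FormConj.Adjoint
import Cfsg.Agent.Forms.SympEmbed

/-!
The averaging projection onto fixed vectors and congruence on the image of a projection.
-/

set_option autoImplicit false

open Matrix

namespace CfsgLib.FormConj

variable {K : Type*} [Field K] {ι : Type*} [Fintype ι] [DecidableEq ι]

/-- The average of the powers. -/
def avg (A : Matrix ι ι K) (k : ℕ) : Matrix ι ι K := (k : K)⁻¹ • ∑ i ∈ Finset.range k, A ^ i

variable {A : Matrix ι ι K} {k : ℕ}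

theorem avg_mem : avg A k ∈ Algebra.adjoin K ({A} : Set (Matrix ι ι K)) :=
  Subalgebra.smul_mem _ (sum_mem fun i _ => pow_mem (Algebra.subset_adjoin (Set.mem_singleton A)) i) _

theorem avg_semiconj {P B : Matrix ι ι K} (h : P * A = B * P) : P * avg A k = avg B k * P := by
  have hp : ∀ i, P * A ^ i = B ^ i * P := fun i => (show SemiconjBy P A B from h).pow_right i
  simp [avg, Matrix.mul_smul, Matrix.smul_mul, Matrix.mul_sum, Matrix.sum_mul, hp]

theorem avg_mul_of_fix (hk : (k : K) ≠ 0) {X : Matrix ι ι K} (h : A * X = X) : avg A k * X = X := by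
  have hp : ∀ i, A ^ i * X = X := fun i => by
    induction i with
    | zero => simp
    | succ i ih => rw [pow_succ, Matrix.mul_assoc, h, ih]
  rw [avg, Matrix.smul_mul, Matrix.sum_mul, Finset.sum_congr rfl fun i _ => hp i, Finset.sum_const,
    Finset.card_range, ← Nat.cast_smul_eq_nsmul K, smul_smul, inv_mul_cancel₀ hk, one_smul]

theorem mul_avg (hA : A ^ k = 1) : A * avg A k = avg A k := by
  have h := (Finset.sum_range_succ' (fun i => A ^ i) k).symm.trans (Finset.sum_range_succ (fun i => A ^ i) k)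
  rw [pow_zero, hA, add_left_inj] at h
  rw [avg, Matrix.mul_smul, Finset.mul_sum]
  simp only [← pow_succ']
  rw [h]

theorem avg_mul (hA : A ^ k = 1) : avg A k * A = avg A k := by
  rw [← avg_semiconj (rfl : A * A = A * A), mul_avg hA]

theorem avg_idem (hk : (k : K) ≠ 0) (hA : A ^ k = 1) : avg A k * avg A k = avg A k :=
  avg_mul_of_fix hk (mul_avg hA)

theorem det_isUnit_of_pow (hk : (k : K) ≠ 0) (hA : A ^ k = 1) : IsUnit A.det := by
  have h := congrArg Matrix.det hA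
  rw [Matrix.det_pow, Matrix.det_one] at h
  exact IsUnit.of_pow_eq_one h fun h0 => hk (by rw [h0, Nat.cast_zero])

theorem avg_inv (hk : (k : K) ≠ 0) (hA : A ^ k = 1) : avg A⁻¹ k = avg A k := by
  have hu := det_isUnit_of_pow hk hA
  have hi : A⁻¹ ^ k = 1 := by rw [Matrix.inv_pow', hA, inv_one]
  have h1 : avg A⁻¹ k * avg A k = avg A k := by
    refine avg_mul_of_fix hk ?_
    conv_lhs => rw [← mul_avg hA]
    rw [Matrix.nonsing_inv_mul_cancel_left _ _ hu]
  have h2 : avg A k * avg A⁻¹ k = avg A⁻¹ k := by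
    refine avg_mul_of_fix hk ?_
    conv_lhs => rw [← mul_avg hi]
    rw [Matrix.mul_nonsing_inv_cancel_left _ _ hu]
  have hc : A * avg A⁻¹ k = avg A⁻¹ k * A :=
    avg_semiconj (by rw [Matrix.mul_nonsing_inv _ hu, Matrix.nonsing_inv_mul _ hu])
  rw [avg_semiconj hc.symm] at h1
  exact h2.symm.trans h1

theorem avg_adj (hk : (k : K) ≠ 0) (hA : A ^ k = 1) {G : Matrix ι ι K} (h : Aᵀ * G * A = G) :
    (avg A k)ᵀ * G = G * avg A k := by
  have hu := det_isUnit_of_pow hk hA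
  have h1 : G * A⁻¹ = Aᵀ * G := by
    conv_lhs => rw [← h]
    rw [Matrix.mul_nonsing_inv_cancel_right _ _ hu]
  have h2 : G * avg A⁻¹ k = avg Aᵀ k * G := avg_semiconj h1
  rw [avg_inv hk hA] at h2
  rw [h2]
  simp [avg, Matrix.transpose_smul, Matrix.transpose_sum, Matrix.transpose_pow]

theorem det_moving (hk : (k : K) ≠ 0) (hA : A ^ k = 1) :
    IsUnit (A * A - 1 + A * avg (A * A) k).det := by
  have hAA : (A * A) ^ k = 1 := by rw [(Commute.refl A).mul_pow, hA, one_mul]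
  have hu := det_isUnit_of_pow hk hA
  rw [← Matrix.isUnit_iff_isUnit_det, ← Matrix.mulVec_injective_iff_isUnit]
  refine (injective_iff_map_eq_zero (Matrix.mulVecLin (A * A - 1 + A * avg (A * A) k))).2 fun v hv => ?_
  rw [Matrix.mulVecLin_apply] at hv
  have hEA : avg (A * A) k * A = A * avg (A * A) k := (avg_semiconj (Matrix.mul_assoc A A A).symm).symm
  have hE : avg (A * A) k *ᵥ v = 0 := by
    have h1 := congrArg (fun x => A⁻¹ *ᵥ (avg (A * A) k *ᵥ x)) hv
    simp only [Matrix.mulVec_zero, Matrix.mulVec_mulVec, Matrix.mul_add, Matrix.mul_sub, Matrix.mul_one] at h1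
    rw [avg_mul hAA, sub_self, zero_add, ← Matrix.mul_assoc (avg (A * A) k), hEA,
      Matrix.mul_assoc, avg_idem hk hAA, Matrix.nonsing_inv_mul_cancel_left _ _ hu] at h1
    exact h1
  have hv2 : (A * A) *ᵥ v = v := by
    rw [Matrix.add_mulVec, ← Matrix.mulVec_mulVec v A (avg _ k), hE, Matrix.mulVec_zero, add_zero,
      Matrix.sub_mulVec, Matrix.one_mulVec, sub_eq_zero] at hv
    exact hv
  have hp : ∀ i, (A * A) ^ i *ᵥ v = v := fun i => by
    induction i with
    | zero => simp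
    | succ i ih => rw [pow_succ, ← Matrix.mulVec_mulVec, hv2, ih]
  rw [avg, Matrix.smul_mulVec, Matrix.sum_mulVec, Finset.sum_congr rfl fun i _ => hp i, Finset.sum_const,
    Finset.card_range, ← Nat.cast_smul_eq_nsmul K, smul_smul, inv_mul_cancel₀ hk, one_smul] at hE
  exact hE

/-- Alternate forms are congruent on the image of a self-adjoint projection. -/
theorem exists_eq_on_proj {G G' P : Matrix ι ι K} (hG : IsUnit G.det) (hG' : IsUnit G'.det)
    (ha : ∀ x, x ⬝ᵥ (G *ᵥ x) = 0) (ha' : ∀ x, x ⬝ᵥ (G' *ᵥ x) = 0) (hP : P * P = P)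
    (hPG : Pᵀ * G = G * P) (hPG' : Pᵀ * G' = G' * P) :
    ∃ D : Matrix ι ι K, IsUnit D.det ∧ D * P = P * D ∧ D * (1 - P) = 1 - P ∧ Dᵀ * G * D * P = G' * P := by
  let W : Submodule K (ι → K) := LinearMap.range P.mulVecLin
  have hW : ∀ w : W, P *ᵥ (w : ι → K) = w := fun ⟨w, x, hx⟩ => by
    show P *ᵥ w = w
    rw [← hx, Matrix.mulVecLin_apply, Matrix.mulVec_mulVec, hP]
  have hmove : ∀ {H : Matrix ι ι K}, Pᵀ * H = H * P → ∀ x y, (P *ᵥ x) ⬝ᵥ (H *ᵥ y) = x ⬝ᵥ (H *ᵥ (P *ᵥ y)) :=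
    fun {H} h x y => by
      rw [← Matrix.vecMul_transpose, ← Matrix.dotProduct_mulVec, Matrix.mulVec_mulVec, h, ← Matrix.mulVec_mulVec]
  let form : Matrix ι ι K → LinearMap.BilinForm K W := fun H => (Matrix.toBilin' H).restrict W
  have hform : ∀ (H : Matrix ι ι K) (u v : W), form H u v = (u : ι → K) ⬝ᵥ (H *ᵥ (v : ι → K)) := fun H u v =>
    Matrix.toBilin'_apply' H _ _
  have halt : ∀ H : Matrix ι ι K, (∀ x, x ⬝ᵥ (H *ᵥ x) = 0) → (form H).IsAlt := fun H h w => by
    rw [hform]; exact h _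
  have hsep : ∀ H : Matrix ι ι K, Pᵀ * H = H * P → IsUnit H.det → (form H).SeparatingLeft := by
    intro H h hu w hw
    refine Subtype.ext ?_
    have h0 : (w : ι → K) ᵥ* H = 0 := by
      refine dotProduct_eq_zero _ fun y => ?_
      rw [← Matrix.dotProduct_mulVec, ← hW w, hmove h]
      exact (hform H w ⟨_, y, rfl⟩).symm.trans (hw _)
    exact Matrix.vecMul_injective_iff_isUnit.2 ((Matrix.isUnit_iff_isUnit_det _).2 hu)
      (h0.trans (Matrix.zero_vecMul H).symm)
  obtain ⟨m, k', b, -, -, -, hrad⟩ := Cfsg.Agent.S0752.result (form G) (halt _ ha)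
  have hk : k' = 0 := by
    rcases Nat.eq_zero_or_pos k' with h | h
    · exact h
    · exact absurd (hsep _ hPG hG _ (hrad ⟨0, h⟩)) (b.ne_zero _)
  subst hk
  have hd : Module.finrank K W = 2 * m := by
    rw [Module.finrank_eq_card_basis b]; simp; ring
  obtain ⟨g, hg⟩ := CfsgLib.Forms.exists_symp_coord hd (form G) (halt _ ha) (hsep _ hPG hG)
  obtain ⟨g', hg'⟩ := CfsgLib.Forms.exists_symp_coord hd (form G') (halt _ ha') (hsep _ hPG' hG')
  let e : W ≃ₗ[K] W := g'.trans g.symm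
  have he : ∀ u v : W, form G (e u) (e v) = form G' u v := fun u v => by
    rw [← hg, ← hg']; simp [e]
  let f : (ι → K) →ₗ[K] (ι → K) := W.subtype ∘ₗ (e : W →ₗ[K] W) ∘ₗ P.mulVecLin.rangeRestrict + (1 - P).mulVecLin
  obtain ⟨D, hDdef⟩ : ∃ D, D = LinearMap.toMatrix' f := ⟨_, rfl⟩
  have hD : ∀ x, D *ᵥ x = (e (P.mulVecLin.rangeRestrict x) : ι → K) + (1 - P) *ᵥ x := fun x => by
    rw [hDdef, LinearMap.toMatrix'_mulVec]; rfl
  have hP0 : P * (1 - P) = 0 := by rw [Matrix.mul_sub, Matrix.mul_one, hP, sub_self]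
  have hP1 : (1 - P) * P = 0 := by rw [Matrix.sub_mul, Matrix.one_mul, hP, sub_self]
  have hrP : ∀ x, P.mulVecLin.rangeRestrict (P *ᵥ x) = P.mulVecLin.rangeRestrict x := fun x =>
    Subtype.ext (show P *ᵥ (P *ᵥ x) = P *ᵥ x by rw [Matrix.mulVec_mulVec, hP])
  have hPD : ∀ x, P *ᵥ (D *ᵥ x) = (e (P.mulVecLin.rangeRestrict x) : ι → K) := fun x => by
    rw [hD, Matrix.mulVec_add, hW, Matrix.mulVec_mulVec, hP0, Matrix.zero_mulVec, add_zero]
  have hDP : ∀ x, D *ᵥ (P *ᵥ x) = (e (P.mulVecLin.rangeRestrict x) : ι → K) := fun x => by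
    rw [hD, hrP, Matrix.mulVec_mulVec, hP1, Matrix.zero_mulVec, add_zero]
  refine ⟨D, ?_, Matrix.ext_of_mulVec_single fun i => ?_, Matrix.ext_of_mulVec_single fun i => ?_, ?_⟩
  · rw [← Matrix.isUnit_iff_isUnit_det, ← Matrix.mulVec_injective_iff_isUnit]
    refine (injective_iff_map_eq_zero D.mulVecLin).2 fun x hx => ?_
    rw [Matrix.mulVecLin_apply] at hx
    have h1 := hPD x
    rw [hx, Matrix.mulVec_zero] at h1
    have h2 : P.mulVecLin.rangeRestrict x = 0 := e.map_eq_zero_iff.1 (Subtype.ext h1.symm)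
    rw [hD, h2, map_zero, Submodule.coe_zero, zero_add, Matrix.sub_mulVec, Matrix.one_mulVec] at hx
    rw [sub_eq_zero] at hx
    exact hx.trans (congrArg Subtype.val h2)
  · rw [← Matrix.mulVec_mulVec, ← Matrix.mulVec_mulVec, hPD, hDP]
  · rw [← Matrix.mulVec_mulVec, hD, Matrix.mulVec_mulVec _ (1 - P) (1 - P)]
    rw [show P.mulVecLin.rangeRestrict ((1 - P) *ᵥ _) = 0 from Subtype.ext (show P *ᵥ ((1 - P) *ᵥ _) = 0 by
      rw [Matrix.mulVec_mulVec, hP0, Matrix.zero_mulVec])]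
    rw [map_zero, Submodule.coe_zero, zero_add, Matrix.sub_mul, Matrix.one_mul, hP0, sub_zero]
  · refine Matrix.ext_of_mulVec_single fun i => dotProduct_eq _ _ fun u => ?_
    rw [dotProduct_comm, dotProduct_comm _ u]
    set v : ι → K := Pi.single i 1
    simp only [← Matrix.mulVec_mulVec, hDP]
    rw [Matrix.dotProduct_mulVec u Dᵀ, Matrix.vecMul_transpose, hD, add_dotProduct, ← hform, he, hform]
    rw [show ((1 - P) *ᵥ u) ⬝ᵥ (G *ᵥ (e (P.mulVecLin.rangeRestrict v) : ι → K)) = 0 by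
      rw [← hW (e _), ← hmove hPG, Matrix.mulVec_mulVec, hP0, Matrix.zero_mulVec, zero_dotProduct]]
    show (P *ᵥ u) ⬝ᵥ (G' *ᵥ (P *ᵥ v)) + 0 = _
    rw [add_zero, hmove hPG', Matrix.mulVec_mulVec _ P P, hP]

end CfsgLib.FormConj
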