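import Cfsg.Agent.GLOrders.Regular
import Mathlib.LinearAlgebra.SymplecticGroup
import Mathlib.Data.Matrix.Block

/-!
A regular unipotent element of the symplectic group, in any characteristic.
-/

set_option autoImplicit false

open Matrix

namespace CfsgLib.FormConj

variable (F : Type*) [Field F] (m : ℕ)

theorem exists_reg_symp (hm : 1 ≤ m) : ∃ u : Matrix.symplecticGroup (Fin m) F,
    (u.1 - 1) ^ (2 * m) = 0 ∧ (u.1 - 1).rank = 2 * m - 1 := by
  classical
  obtain ⟨S, hS⟩ : ∃ S, S = CfsgLib.GLOrders.shiftMat F m := ⟨_, rfl⟩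
  have hSm : S ^ m = 0 := hS ▸ CfsgLib.GLOrders.shiftMat_pow_self
  obtain ⟨A, hA⟩ : ∃ A, A = 1 + S := ⟨_, rfl⟩
  have hAu : IsUnit A.det := (Matrix.isUnit_iff_isUnit_det _).1 (hA ▸ IsNilpotent.isUnit_one_add ⟨m, hSm⟩)
  have hAt : IsUnit Aᵀ.det := by rwa [Matrix.det_transpose]
  obtain ⟨A', hA'⟩ : ∃ A', A' = Aᵀ⁻¹ := ⟨_, rfl⟩
  let i0 : Fin m := ⟨0, hm⟩
  obtain ⟨B, hB⟩ : ∃ B, B = Matrix.single i0 i0 (1 : F) := ⟨_, rfl⟩
  have hBt : Bᵀ = B := by rw [hB, Matrix.transpose_single]
  obtain ⟨u, hu⟩ : ∃ u, u = fromBlocks A (A * B) 0 A' := ⟨_, rfl⟩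
  have e1 : Aᵀ * A' = 1 := hA' ▸ Matrix.mul_nonsing_inv _ hAt
  have e2 : A'ᵀ * A = 1 := by
    have := congrArg Matrix.transpose e1
    rwa [Matrix.transpose_mul, Matrix.transpose_transpose, Matrix.transpose_one] at this
  have hmem : u ∈ Matrix.symplecticGroup (Fin m) F := by
    rw [SymplecticGroup.mem_iff', hu, Matrix.J, Matrix.fromBlocks_transpose, Matrix.fromBlocks_multiply,
      Matrix.fromBlocks_multiply]
    simp only [Matrix.transpose_zero, Matrix.mul_zero, Matrix.zero_mul, Matrix.mul_one, Matrix.mul_neg,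
      zero_add, add_zero, Matrix.transpose_mul, hBt, Matrix.neg_mul, e1, e2]
    rw [← Matrix.mul_assoc, e2, Matrix.one_mul, Matrix.mul_assoc, e1, Matrix.mul_one, add_neg_cancel]
  have hN : u - 1 = fromBlocks S (A * B) 0 (A' - 1) := by
    rw [hu, ← Matrix.fromBlocks_one, sub_eq_add_neg, Matrix.fromBlocks_neg, Matrix.fromBlocks_add]
    simp [hA, sub_eq_add_neg]
  have hA'1 : A' - 1 = -(A' * Sᵀ) := by
    have e3 : A' * Aᵀ = 1 := hA' ▸ Matrix.nonsing_inv_mul _ hAt
    rw [hA, Matrix.transpose_add, Matrix.transpose_one, Matrix.mul_add, Matrix.mul_one] at e3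
    rw [← e3]; abel
  have hAA' : Commute A' Sᵀ := by
    have e3 : A' * Aᵀ = 1 := hA' ▸ Matrix.nonsing_inv_mul _ hAt
    have h := e3.trans e1.symm
    rw [hA, Matrix.transpose_add, Matrix.transpose_one, Matrix.mul_add, Matrix.mul_one, Matrix.add_mul,
      Matrix.one_mul] at h
    exact add_left_cancel h
  have hpow : (A' - 1) ^ m = 0 := by
    rw [hA'1, neg_pow, hAA'.mul_pow, ← Matrix.transpose_pow, hSm, Matrix.transpose_zero, Matrix.mul_zero, Matrix.mul_zero]
  have hblock : ∀ k, ∃ X, (u - 1) ^ k = fromBlocks (S ^ k) X 0 ((A' - 1) ^ k) := fun k => by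
    induction k with
    | zero => exact ⟨0, by simp [Matrix.fromBlocks_one]⟩
    | succ k ih =>
      obtain ⟨X, hX⟩ := ih
      exact ⟨S ^ k * (A * B) + X * (A' - 1), by
        rw [pow_succ, hX, hN, Matrix.fromBlocks_multiply]
        simp [pow_succ]⟩
  obtain ⟨X, hX⟩ := hblock m
  refine ⟨⟨u, hmem⟩, ?_, ?_⟩
  · show (u - 1) ^ (2 * m) = 0
    rw [two_mul, pow_add, hX, hSm, hpow, Matrix.fromBlocks_multiply]
    simp
  · show (u - 1).rank = 2 * m - 1
    let last : Fin m := ⟨m - 1, by omega⟩
    let w : Fin m ⊕ Fin m → F := Sum.elim (Pi.single last 1) 0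
    have hSv : ∀ (x : Fin m → F) (i : Fin m), (S *ᵥ x) i = if h : 1 ≤ i.val then x ⟨i.val - 1, by omega⟩ else 0 := by
      intro x i
      rw [hS]
      have h := CfsgLib.GLOrders.shiftMat_mul (Matrix.replicateCol (Fin m) x) i i
      simpa [Matrix.mulVec, Matrix.mul_apply, dotProduct] using h
    have hSt : ∀ (y : Fin m → F) (j : Fin m), (Sᵀ *ᵥ y) j = if h : j.val + 1 < m then y ⟨j.val + 1, h⟩ else 0 := by
      intro y j
      rw [Matrix.mulVec_transpose, hS]
      have h := CfsgLib.GLOrders.mul_shiftMat (Matrix.replicateRow (Fin m) y) j j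
      simpa [Matrix.vecMul, Matrix.mul_apply, dotProduct] using h
    have hker : LinearMap.ker (u - 1).mulVecLin = Submodule.span F {w} := by
      refine le_antisymm (fun z hz => ?_) ((Submodule.span_singleton_le_iff_mem _ _).2 ?_)
      · obtain ⟨x, y, rfl⟩ : ∃ x y, z = Sum.elim x y := ⟨_, _, (Sum.elim_comp_inl_inr z).symm⟩
        have hz' : (u - 1) *ᵥ Sum.elim x y = 0 := hz
        rw [hN, Matrix.fromBlocks_mulVec] at hz'
        have h1 : ∀ i, (S *ᵥ x) i + (A *ᵥ (B *ᵥ y)) i = 0 := fun i => by
          have := congrFun hz' (Sum.inl i)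
          simpa [Matrix.mulVec_mulVec] using this
        have h2 : Sᵀ *ᵥ y = 0 := by
          have h3 : (A' - 1) *ᵥ y = 0 := funext fun i => by
            have := congrFun hz' (Sum.inr i)
            simpa using this
          have h4 := congrArg (fun v => Aᵀ *ᵥ v) h3
          simp only [hA'1, Matrix.neg_mulVec, Matrix.mulVec_neg, Matrix.mulVec_zero, Matrix.mulVec_mulVec, neg_eq_zero,
            ← Matrix.mul_assoc, e1, Matrix.one_mul] at h4
          exact h4
        have hy : ∀ j : Fin m, j.val ≠ 0 → y j = 0 := fun j hj => by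
          have h := congrFun h2 ⟨j.val - 1, by omega⟩
          rw [hSt, dif_pos (show j.val - 1 + 1 < m by omega), Pi.zero_apply] at h
          rw [← h]; congr 1; exact Fin.ext (show j.val = j.val - 1 + 1 by omega)
        have hBy : B *ᵥ y = Pi.single i0 (y i0) := by
          rw [hB]; ext j; simp [Matrix.single_mulVec, Pi.single_apply, Function.update_apply]
        have hA0 : (A *ᵥ (B *ᵥ y)) i0 = y i0 := by
          rw [hBy, hA, Matrix.add_mulVec, Matrix.one_mulVec, Pi.add_apply, hSv, dif_neg (by simp [i0])]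
          simp
        have hy0 : y i0 = 0 := by
          have h := h1 i0
          rwa [hSv, dif_neg (by simp [i0]), zero_add, hA0] at h
        have hyz : y = 0 := funext fun j => by
          by_cases hj : j.val = 0
          · rw [show j = i0 from Fin.ext hj, hy0]; rfl
          · exact hy j hj
        refine Submodule.mem_span_singleton.2 ⟨x last, ?_⟩
        ext (i | i)
        · simp only [w, Pi.smul_apply, Sum.elim_inl, smul_eq_mul]
          by_cases hi : i = last
          · subst hi; simp
          · have hi' : i.val + 1 < m := by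
              have : i.val ≠ m - 1 := fun h => hi (Fin.ext h)
              omega
            have h := h1 ⟨i.val + 1, hi'⟩
            rw [hyz, Matrix.mulVec_zero, Matrix.mulVec_zero, Pi.zero_apply, add_zero, hSv,
              dif_pos (show 1 ≤ i.val + 1 by omega)] at h
            simp only [Nat.add_sub_cancel] at h
            simp [hi, h]
        · simp [w, hyz]
      · show (u - 1) *ᵥ w = 0
        rw [hN, Matrix.fromBlocks_mulVec]
        have h0 : S *ᵥ Pi.single last 1 = 0 := funext fun i => by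
          rw [hSv]
          split
          · rw [Pi.single_eq_of_ne (fun h => by have := congrArg Fin.val h; simp [last] at this; omega)]; rfl
          · rfl
        have hl : w ∘ Sum.inl = Pi.single last 1 := rfl
        have hr : w ∘ Sum.inr = (0 : Fin m → F) := rfl
        rw [hl, hr, h0, Matrix.mulVec_zero, Matrix.zero_mulVec, Matrix.mulVec_zero]
        ext (i | i) <;> simp
    have h := LinearMap.finrank_range_add_finrank_ker (u - 1).mulVecLin
    have hw : w ≠ 0 := fun h => by
      have := congrFun h (Sum.inl last)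
      simp [w] at this
    rw [hker, finrank_span_singleton hw, Module.finrank_fintype_fun_eq_card] at h
    have h2 : Module.finrank F (LinearMap.range (u - 1).mulVecLin) = (u - 1).rank := rfl
    simp at h
    omega

end CfsgLib.FormConj
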