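import Cfsg.Agent.FormConj.Proj

/-!
Semisimple isometries of an alternating form.
-/

set_option autoImplicit false

open Matrix

namespace CfsgLib.FormConj

variable {K : Type*} [Field K] {ι : Type*} [Fintype ι] [DecidableEq ι]

theorem dag_id (A : Matrix ι ι K) : dag (RingHom.id K) A = Aᵀ := by
  simp [dag]

theorem commute_of_proj {A P D : Matrix ι ι K} {c : K} (hAP : A * P = c • P) (hPA : P * A = c • P)
    (h1 : D * P = P * D) (h2 : D * (1 - P) = 1 - P) : D * A = A * D := by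
  have hA : (1 - P) * A = A * (1 - P) := by rw [Matrix.sub_mul, Matrix.mul_sub, hAP, hPA, Matrix.one_mul, Matrix.mul_one]
  calc D * A = D * (P * A) + D * (1 - P) * A := by
        rw [Matrix.mul_assoc D (1 - P), ← Matrix.mul_add, ← Matrix.add_mul, add_sub_cancel, Matrix.one_mul]
    _ = c • (D * P) + (1 - P) * A := by rw [h2, hPA, Matrix.mul_smul]
    _ = A * P * D + A * (D * (1 - P)) := by rw [h1, h2, hAP, Matrix.smul_mul, hA]
    _ = A * D := by rw [Matrix.mul_assoc, ← h1, ← Matrix.mul_add, ← Matrix.mul_add, add_sub_cancel, Matrix.mul_one]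

theorem alt_congr {G : Matrix ι ι K} (ha : ∀ x, x ⬝ᵥ (G *ᵥ x) = 0) (D : Matrix ι ι K) :
    ∀ x, x ⬝ᵥ ((Dᵀ * G * D) *ᵥ x) = 0 := fun x => by
  rw [← Matrix.mulVec_mulVec, ← Matrix.mulVec_mulVec, Matrix.dotProduct_mulVec, Matrix.vecMul_transpose]
  exact ha _

theorem alt_transpose {G : Matrix ι ι K} (ha : ∀ x, x ⬝ᵥ (G *ᵥ x) = 0) : Gᵀ = (-1 : K) • G := by
  have h : ∀ x y, x ⬝ᵥ (G *ᵥ y) = -(y ⬝ᵥ (G *ᵥ x)) := fun x y => by
    have := ha (x + y)
    rw [Matrix.mulVec_add, add_dotProduct, dotProduct_add, dotProduct_add, ha, ha] at this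
    linear_combination this
  ext i j
  have := h (Pi.single j 1) (Pi.single i 1)
  simpa using this

theorem isometry_congr {G A D : Matrix ι ι K} (h : D * A = A * D) (hA : Aᵀ * G * A = G) :
    Aᵀ * (Dᵀ * G * D) * A = Dᵀ * G * D := by
  calc Aᵀ * (Dᵀ * G * D) * A = (D * A)ᵀ * G * (D * A) := by rw [Matrix.transpose_mul]; simp only [Matrix.mul_assoc]
    _ = Dᵀ * (Aᵀ * G * A) * D := by rw [h, Matrix.transpose_mul]; simp only [Matrix.mul_assoc]
    _ = Dᵀ * G * D := by rw [hA]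

theorem isUnit_congr {G D : Matrix ι ι K} (hG : IsUnit G.det) (hD : IsUnit D.det) :
    IsUnit (Dᵀ * G * D).det := by
  rw [Matrix.det_mul, Matrix.det_mul, Matrix.det_transpose]; exact (hD.mul hG).mul hD

variable [Finite K]

/-- Similar semisimple isometries of an alternating form are conjugate by an isometry. -/
theorem exists_symp_conj {G A B P : Matrix ι ι K} {k : ℕ} (hk : (k : K) ≠ 0) (hAk : A ^ k = 1)
    (hG : IsUnit G.det) (ha : ∀ x, x ⬝ᵥ (G *ᵥ x) = 0) (hA : Aᵀ * G * A = G) (hB : Bᵀ * G * B = G)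
    (hP : IsUnit P.det) (hPA : P * A = B * P) :
    ∃ g : Matrix ι ι K, gᵀ * G * g = G ∧ g * A = B * g := by
  set G' := Pᵀ * G * P with hG'def
  have hG' : IsUnit G'.det := isUnit_congr hG hP
  have hA' : Aᵀ * G' * A = G' := by
    calc Aᵀ * G' * A = (P * A)ᵀ * G * (P * A) := by rw [hG'def, Matrix.transpose_mul]; simp only [Matrix.mul_assoc]
      _ = Pᵀ * (Bᵀ * G * B) * P := by rw [hPA, Matrix.transpose_mul]; simp only [Matrix.mul_assoc]
      _ = G' := by rw [hB]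
  have ha' := alt_congr ha P
  rw [← hG'def] at ha'
  have hAA : (A * A) ^ k = 1 := by rw [(Commute.refl A).mul_pow, hAk, one_mul]
  have hAAG : ∀ H, Aᵀ * H * A = H → (A * A)ᵀ * H * (A * A) = H := fun H h => by
    calc (A * A)ᵀ * H * (A * A) = Aᵀ * (Aᵀ * H * A) * A := by rw [Matrix.transpose_mul]; simp only [Matrix.mul_assoc]
      _ = H := by rw [h, h]
  set Pp := avg A k with hPp
  set E := avg (A * A) k with hE
  set Pm := E - Pp with hPm
  have hadj : ∀ H, Aᵀ * H * A = H → (Ppᵀ * H = H * Pp ∧ Eᵀ * H = H * E) ∧ Pmᵀ * H = H * Pm := fun H h => by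
    have h1 := avg_adj hk hAk h
    have h2 := avg_adj hk hAA (hAAG H h)
    exact ⟨⟨h1, h2⟩, by rw [hPm, Matrix.transpose_sub, Matrix.sub_mul, Matrix.mul_sub, h1, h2]⟩
  have hAPp : A * Pp = (1 : K) • Pp := by rw [one_smul]; exact mul_avg hAk
  have hPpA : Pp * A = (1 : K) • Pp := by rw [one_smul]; exact avg_mul hAk
  have hPp2 : Pp * Pp = Pp := avg_idem hk hAk
  have hE2 : E * E = E := avg_idem hk hAA
  have hEA : E * A = A * E := (avg_semiconj (Matrix.mul_assoc A A A).symm).symm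
  have hEP : E * Pp = Pp := avg_mul_of_fix hk (by
    rw [Matrix.mul_assoc, hPp, mul_avg hAk, mul_avg hAk])
  have hPE : Pp * E = Pp := by
    rw [← avg_semiconj (A := A) (B := A) (k := k) hEA, ← hPp, hEP]
  have hAPm : A * Pm = (-1 : K) • Pm := by
    have h1 : Pp * (A * E + E) = A * E + E := avg_mul_of_fix hk (by
      rw [Matrix.mul_add, ← Matrix.mul_assoc, hE, mul_avg hAA, add_comm])
    rw [Matrix.mul_add, ← Matrix.mul_assoc, hPpA, one_smul, hPE] at h1
    rw [hPm, Matrix.mul_sub, hAPp, one_smul, smul_sub, neg_one_smul, neg_one_smul, sub_neg_eq_add]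
    linear_combination (norm := abel) -h1
  have hPmA : Pm * A = (-1 : K) • Pm := by
    rw [← hAPm, hPm, Matrix.sub_mul, Matrix.mul_sub, hEA, hAPp, hPpA]
  have hPm2 : Pm * Pm = Pm := by
    rw [hPm, Matrix.sub_mul, Matrix.mul_sub, Matrix.mul_sub, hE2, hEP, hPE, hPp2, sub_self, sub_zero]
  have hpm : Pp * Pm = 0 := by rw [hPm, Matrix.mul_sub, hPE, hPp2, sub_self]
  have hmp : Pm * Pp = 0 := by rw [hPm, Matrix.sub_mul, hEP, hPp2, sub_self]
  obtain ⟨D, hD, hDP, hD1, hDG⟩ := exists_eq_on_proj hG hG' ha ha' hPp2 (hadj G hA).1.1 (hadj G' hA').1.1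
  have hDA := commute_of_proj hAPp hPpA hDP hD1
  set G₁ := Dᵀ * G * D with hG₁
  have hA₁ : Aᵀ * G₁ * A = G₁ := isometry_congr hDA hA
  obtain ⟨D', hD', hDP', hD1', hDG'⟩ := exists_eq_on_proj (isUnit_congr hG hD) hG' (alt_congr ha D) ha' hPm2
    (hadj G₁ hA₁).2 (hadj G' hA').2
  have hDA' := commute_of_proj hAPm hPmA hDP' hD1'
  set G₂ := D'ᵀ * G₁ * D' with hG₂
  have hG₂u : IsUnit G₂.det := isUnit_congr (isUnit_congr hG hD) hD'
  have hA₂ : Aᵀ * G₂ * A = G₂ := isometry_congr hDA' hA₁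
  have hpD : Pp * D' = Pp := by
    calc Pp * D' = Pp * (Pm * D') + Pp * (D' * (1 - Pm)) := by
          rw [← hDP', ← Matrix.mul_add, ← Matrix.mul_add, add_sub_cancel, Matrix.mul_one]
      _ = Pp := by rw [← Matrix.mul_assoc, hpm, Matrix.zero_mul, zero_add, hD1', Matrix.mul_sub, Matrix.mul_one, hpm, sub_zero]
  have hDp : D' * Pp = Pp := by
    calc D' * Pp = D' * (1 - Pm) * Pp := by rw [Matrix.mul_assoc, Matrix.sub_mul, Matrix.one_mul, hmp, sub_zero]
      _ = Pp := by rw [hD1', Matrix.sub_mul, Matrix.one_mul, hmp, sub_zero]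
  have hEG : G' * E = G₂ * E := by
    have e1 : G₂ * Pp = G' * Pp := by
      calc G₂ * Pp = D'ᵀ * (G₁ * (D' * Pp)) := by rw [hG₂]; simp only [Matrix.mul_assoc]
        _ = (Pp * D')ᵀ * G₁ := by rw [hDp, ← (hadj G₁ hA₁).1.1, Matrix.transpose_mul, Matrix.mul_assoc]
        _ = G₁ * Pp := by rw [hpD, (hadj G₁ hA₁).1.1]
        _ = G' * Pp := hDG
    have e2 : E = Pp + Pm := by rw [hPm]; abel
    rw [e2, Matrix.mul_add, Matrix.mul_add, e1, hDG']
  obtain ⟨C, hC, hCA, hCG⟩ := exists_congr_corner (RingHom.id K) (fun _ => rfl) (G := G₂) (G' := G') (A := A)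
    (ε := -1) hG₂u hG' (by rw [dag_id, hG₂]; exact alt_transpose (alt_congr (alt_congr ha D) D'))
    (by rw [dag_id]; exact alt_transpose ha') (by rw [dag_id]; exact hA₂) (by rw [dag_id]; exact hA')
    (E := E) (Algebra.adjoin_le (Set.singleton_subset_iff.2 (Subalgebra.mul_mem _
      (Algebra.subset_adjoin (Set.mem_singleton A)) (Algebra.subset_adjoin (Set.mem_singleton A)))) avg_mem)
    hE2 (by rw [adj, dag_id, Matrix.mul_assoc, (hadj G₂ hA₂).1.2, Matrix.nonsing_inv_mul_cancel_left _ _ hG₂u])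
    hEG (Or.inr (det_moving hk hAk))
  rw [dag_id] at hCG
  set T := D * D' * C with hT
  have hTG : Tᵀ * G * T = G' := by
    rw [← hCG, hG₂, hG₁, hT, Matrix.transpose_mul, Matrix.transpose_mul]; simp only [Matrix.mul_assoc]
  have hTu : IsUnit T.det := by rw [hT, Matrix.det_mul, Matrix.det_mul]; exact (hD.mul hD').mul hC
  have hTA : T⁻¹ * A = A * T⁻¹ := by
    have hc : T * A = A * T := by
      rw [hT]
      exact Commute.mul_left (Commute.mul_left hDA hDA') hCA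
    calc T⁻¹ * A = T⁻¹ * (A * T) * T⁻¹ := by
          rw [Matrix.mul_assoc, Matrix.mul_assoc, Matrix.mul_nonsing_inv _ hTu, Matrix.mul_one]
      _ = A * T⁻¹ := by rw [← hc, Matrix.nonsing_inv_mul_cancel_left _ _ hTu]
  refine ⟨P * T⁻¹, ?_, ?_⟩
  · calc (P * T⁻¹)ᵀ * G * (P * T⁻¹) = T⁻¹ᵀ * G' * T⁻¹ := by
          rw [hG'def, Matrix.transpose_mul]; simp only [Matrix.mul_assoc]
      _ = (T * T⁻¹)ᵀ * G * (T * T⁻¹) := by rw [← hTG, Matrix.transpose_mul T]; simp only [Matrix.mul_assoc]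
      _ = G := by rw [Matrix.mul_nonsing_inv _ hTu, Matrix.transpose_one, Matrix.one_mul, Matrix.mul_one]
  · rw [Matrix.mul_assoc, hTA, ← Matrix.mul_assoc, hPA, Matrix.mul_assoc]

end CfsgLib.FormConj
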