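import Cfsg.Agent.FormConj.Adjoint
import Cfsg.Agent.AutPSL.GraphField

/-!
Conjugacy in the general unitary group.
-/

set_option autoImplicit false

open Matrix

namespace CfsgLib.FormConj

variable {K : Type*} [Field K] [Finite K] {n : ℕ} {θ : K →+* K}

theorem inv_mul_conj {P A : Matrix (Fin n) (Fin n) K} (hP : IsUnit P.det) (hC : P * A = A * P) :
    P⁻¹ * A = A * P⁻¹ := by
  calc P⁻¹ * A = P⁻¹ * (A * P) * P⁻¹ := by
        rw [Matrix.mul_assoc, Matrix.mul_assoc, Matrix.mul_nonsing_inv _ hP, Matrix.mul_one]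
    _ = A * P⁻¹ := by rw [← hC, Matrix.nonsing_inv_mul_cancel_left _ _ hP]

/-- Similar isometries are conjugate by an isometry. -/
theorem exists_unitary_conj (hθ : ∀ a, θ (θ a) = a) (hne : θ ≠ RingHom.id K) {A B P : Matrix (Fin n) (Fin n) K}
    (hA : dag θ A * A = 1) (hB : dag θ B * B = 1) (hP : IsUnit P.det) (hPA : P * A = B * P) :
    ∃ g : Matrix (Fin n) (Fin n) K, dag θ g * g = 1 ∧ g * A = B * g := by
  obtain ⟨C, hCu, hCA, hC⟩ := exists_congr_commute θ hθ (G := (1 : Matrix (Fin n) (Fin n) K)) (G' := dag θ P * P)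
    (A := A) (ε := 1) (by simp) (by rw [Matrix.det_mul]; exact (isUnit_det_dag θ hP).mul hP)
    (by rw [dag_one, one_smul]) (by rw [dag_mul, dag_dag θ hθ, one_smul])
    (by rw [Matrix.mul_one, hA]) (by
      calc dag θ A * (dag θ P * P) * A = dag θ (P * A) * (P * A) := by rw [dag_mul]; simp only [Matrix.mul_assoc]
        _ = dag θ P * (dag θ B * B) * P := by rw [hPA, dag_mul]; simp only [Matrix.mul_assoc]
        _ = dag θ P * P := by rw [hB, Matrix.mul_one])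
    (Or.inl hne)
  rw [Matrix.mul_one] at hC
  refine ⟨P * C⁻¹, ?_, ?_⟩
  · calc dag θ (P * C⁻¹) * (P * C⁻¹) = dag θ C⁻¹ * (dag θ P * P) * C⁻¹ := by rw [dag_mul]; simp only [Matrix.mul_assoc]
      _ = dag θ (C * C⁻¹) * (C * C⁻¹) := by rw [← hC, dag_mul]; simp only [Matrix.mul_assoc]
      _ = 1 := by rw [Matrix.mul_nonsing_inv _ hCu, dag_one, Matrix.mul_one]
  · rw [Matrix.mul_assoc, inv_mul_conj hCu hCA, ← Matrix.mul_assoc, hPA, Matrix.mul_assoc]

/-- Similar to an isometry iff similar to the contragredient. -/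
theorem exists_unitary_similar (hθ : ∀ a, θ (θ a) = a) (hne : θ ≠ RingHom.id K) {A c : Matrix (Fin n) (Fin n) K}
    (hc : IsUnit c.det) (hcA : dag θ A * c * A = c) :
    ∃ C : Matrix (Fin n) (Fin n) K, IsUnit C.det ∧ dag θ (C * A * C⁻¹) * (C * A * C⁻¹) = 1 := by
  obtain ⟨H, hHu, hH, hHA⟩ := exists_hermitian θ hθ hne hc hcA
  obtain ⟨C, hCu, -, hC⟩ := exists_congr_commute θ hθ (G := (1 : Matrix (Fin n) (Fin n) K)) (G' := H)
    (A := 1) (ε := 1) (by simp) hHu (by rw [dag_one, one_smul]) (by rw [hH, one_smul])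
    (by simp [dag_one]) (by simp [dag_one]) (Or.inl hne)
  rw [Matrix.mul_one] at hC
  refine ⟨C, hCu, ?_⟩
  calc dag θ (C * A * C⁻¹) * (C * A * C⁻¹) = dag θ C⁻¹ * (dag θ A * (dag θ C * C) * A) * C⁻¹ := by
        simp only [dag_mul, Matrix.mul_assoc]
    _ = dag θ (C * C⁻¹) * (C * C⁻¹) := by rw [hC, hHA, ← hC, dag_mul]; simp only [Matrix.mul_assoc]
    _ = 1 := by rw [Matrix.mul_nonsing_inv _ hCu, dag_one, Matrix.mul_one]

omit [Finite K] in
theorem mem_GU_dag (q : ℕ) (hq : ∀ x, θ x = x ^ q) (hθ : ∀ a, θ (θ a) = a) (g : GL (Fin n) K) :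
    g ∈ Cfsg.GU n K q ↔ dag θ g.1 * g.1 = 1 :=
  CfsgLib.AutPSL.mem_GU_iff θ q hq hθ g

end CfsgLib.FormConj
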